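import Cfsg.Agent.Lib.FourFree.K.PSLAut
import Cfsg.Agent.Lib.Classical.ProjLine
import Cfsg.Agent.Lib.Lie.Suz.Sub.Norm
import Cfsg.Agent.Lib.Fusion.FrakL.Suzuki
import Cfsg.Agent.Lib.SU.UnitalModel

/-!
# The Sylow 2-subgroups of the rank one groups, and change of the field in `PSU`
-/

set_option autoImplicit false
set_option linter.unusedSectionVars false
set_option linter.style.haveILetI false

namespace CfsgLib.SU.CentThree

open Subgroup Matrix CfsgLib.AutPSL

/-- Sylow `2`-subgroups of `PSL₂(2^n)` are commutative. -/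
theorem psl_two_sylow_comm {F : Type} [Field F] [Fintype F] {n : ℕ} (hF : Fintype.card F = 2 ^ n)
    (hn : 1 ≤ n) (Q : Sylow 2 (Matrix.ProjectiveSpecialLinearGroup (Fin 2) F)) :
    ∀ a ∈ (Q : Subgroup (Matrix.ProjectiveSpecialLinearGroup (Fin 2) F)), ∀ b ∈ (Q : Subgroup (Matrix.ProjectiveSpecialLinearGroup (Fin 2) F)), a * b = b * a := by
  classical
  haveI : Fact (Nat.Prime 2) := ⟨Nat.prime_two⟩
  have h2 : (2 : F) = 0 := by
    have h := FiniteField.cast_card_eq_zero F
    rw [hF, Nat.cast_pow] at h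
    simpa using eq_zero_of_pow_eq_zero h
  let M : F → Matrix.SpecialLinearGroup (Fin 2) F := fun x => ⟨!![1, x; 0, 1], by rw [det_fin_two_of]; ring⟩
  let f : Multiplicative F →* Matrix.ProjectiveSpecialLinearGroup (Fin 2) F :=
    { toFun := fun x => proj (M (Multiplicative.toAdd x))
      map_one' := by
        rw [← map_one (proj (n := 2) (F := F))]
        refine congrArg _ (Subtype.ext ?_)
        ext i j
        fin_cases i <;> fin_cases j <;> simp [M]
      map_mul' := fun x y => by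
        rw [← map_mul]
        refine congrArg _ (Subtype.ext ?_)
        show _ = (M (Multiplicative.toAdd x)).1 * (M (Multiplicative.toAdd y)).1
        ext i j
        fin_cases i <;> fin_cases j <;> simp [M, mul_apply, Fin.sum_univ_two, add_comm] }
  have hinj : Function.Injective f := by
    intro x y hxy
    apply Multiplicative.toAdd.injective
    rcases FourFree.PSL.proj_eq_iff.1 (show proj (M _) = proj (M _) from hxy) with h | h
    · simpa [M] using congrFun (congrFun h 0) 1
    · have h' : Multiplicative.toAdd x = -Multiplicative.toAdd y := by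
        simpa [M] using congrFun (congrFun h 0) 1
      linear_combination h' + Multiplicative.toAdd y * (-h2)
  have hcard : Nat.card (Matrix.ProjectiveSpecialLinearGroup (Fin 2) F) =
      2 ^ n * ((2 ^ n - 1) * (2 ^ n + 1)) := by
    have h := CfsgLib.Classical.card_psl2 (F := F)
    rw [hF] at h
    have hg : Nat.gcd 2 (2 ^ n - 1) = 1 := by
      have h2n : 2 ∣ 2 ^ n := dvd_pow_self 2 (by omega)
      have := Nat.one_le_pow n 2 (by norm_num)
      exact (Nat.prime_two.coprime_iff_not_dvd.2 (by omega))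
    rwa [hg, one_mul] at h
  have hodd : Odd ((2 ^ n - 1) * (2 ^ n + 1)) := by
    have he : Even (2 ^ n) := Nat.even_pow.2 ⟨even_two, by omega⟩
    exact (Nat.Even.sub_odd (Nat.one_le_two_pow) he odd_one).mul he.add_one
  have hS : Nat.card f.range = Nat.card Q := by
    rw [CfsgLib.SU.card_sylow_two hcard hodd Q, ← Nat.card_congr (MonoidHom.ofInjective hinj).toEquiv,
      Nat.card_congr Multiplicative.toAdd, Nat.card_eq_fintype_card, hF]
  obtain ⟨P, hP⟩ := ((IsPGroup.of_card (p := 2) (n := n) (by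
    rw [hS, CfsgLib.SU.card_sylow_two hcard hodd Q]) : IsPGroup 2 f.range)).exists_le_sylow
  have hPf : f.range = (P : Subgroup (Matrix.ProjectiveSpecialLinearGroup (Fin 2) F)) :=
    Subgroup.eq_of_le_of_card_ge hP (by rw [hS]; exact (Nat.card_congr (P.equiv Q).toEquiv).le)
  obtain ⟨g, hg⟩ := MulAction.exists_smul_eq (Matrix.ProjectiveSpecialLinearGroup (Fin 2) F) P Q
  intro a ha b hb
  rw [← hg, Sylow.coe_subgroup_smul, ← hPf] at ha hb
  obtain ⟨_, ⟨x, rfl⟩, rfl⟩ := ha
  obtain ⟨_, ⟨y, rfl⟩, rfl⟩ := hb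
  show MulAut.conj g (f x) * MulAut.conj g (f y) = MulAut.conj g (f y) * MulAut.conj g (f x)
  rw [← map_mul, ← map_mul, ← map_mul, ← map_mul, mul_comm x y]

open CfsgLib.Lie.Suz in
/-- Sylow `2`-subgroups of the Suzuki groups have order `q²` and at least `q` elements of square `1`. -/
theorem suz_sylow {F : Type*} [Field F] [Fintype F] {m : ℕ} (hm : 1 ≤ m)
    (hF : Fintype.card F = 2 ^ (2 * m + 1)) (Q : Sylow 2 (Cfsg.Sz F m)) :
    Nat.card (Q : Subgroup (Cfsg.Sz F m)) = Fintype.card F ^ 2 ∧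
      ∃ ι : F → Cfsg.Sz F m, Function.Injective ι ∧ ∀ b, ι b ∈ (Q : Subgroup (Cfsg.Sz F m)) ∧ ι b * ι b = 1 := by
  haveI : Fact (Nat.Prime 2) := ⟨Nat.prime_two⟩
  obtain ⟨P, hP⟩ := CfsgLib.Fusion.FrakL.exists_sylow_U hm hF
  refine ⟨?_, ?_⟩
  · rw [← card_U hF (m := m), ← hP]
    exact Nat.card_congr (Q.equiv P).toEquiv
  obtain ⟨g, hg⟩ := MulAction.exists_smul_eq (Cfsg.Sz F m) P Q
  refine ⟨fun b => g * TS hF 0 b * g⁻¹, fun b c h => ?_, fun b => ⟨?_, ?_⟩⟩
  · exact (TS_inj hF (mul_left_cancel (mul_right_cancel h))).2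
  · rw [← hg, Sylow.coe_subgroup_smul, hP]
    exact ⟨TS hF 0 b, TS_mem_U hF 0 b, rfl⟩
  · show g * TS hF 0 b * g⁻¹ * (g * TS hF 0 b * g⁻¹) = 1
    rw [show g * TS hF 0 b * g⁻¹ * (g * TS hF 0 b * g⁻¹) = g * (TS hF 0 b * TS hF 0 b) * g⁻¹ by group,
      TS_sq' hF, mul_zero, TS_zero' hF, mul_one, mul_inv_cancel]

section transfer

variable {K L : Type*} [Field K] [Field L]

theorem su_map_mem_field (n q : ℕ) (e : K ≃+* L) {A : Matrix.SpecialLinearGroup (Fin n) K}
    (hA : A ∈ Cfsg.SU n K q) :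
    Matrix.SpecialLinearGroup.map e.toRingHom A ∈ Cfsg.SU n L q := by
  intro u v
  obtain ⟨u, rfl⟩ : ∃ u', u = e ∘ u' := ⟨e.symm ∘ u, by funext i; simp⟩
  obtain ⟨v, rfl⟩ : ∃ v', v = e ∘ v' := ⟨e.symm ∘ v, by funext i; simp⟩
  have h := congrArg e (hA u v)
  simp only [Cfsg.hermForm, map_sum, map_mul, map_pow] at h
  refine Eq.trans ?_ h
  simp only [Cfsg.hermForm, Cfsg.slToMat, MonoidHom.coe_comp, Units.coeHom_apply, Function.comp_apply,
    Matrix.SpecialLinearGroup.toGL, Matrix.mulVec, dotProduct, map_sum, map_mul]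
  rfl

/-- A field isomorphism gives an isomorphism of the special unitary groups. -/
noncomputable def suFieldEquiv (n q : ℕ) (e : K ≃+* L) : ↥(Cfsg.SU n K q) ≃* ↥(Cfsg.SU n L q) where
  toFun A := ⟨_, su_map_mem_field n q e A.2⟩
  invFun A := ⟨_, su_map_mem_field n q e.symm A.2⟩
  left_inv A := Subtype.ext (Subtype.ext (Matrix.ext fun i j => e.symm_apply_apply _))
  right_inv A := Subtype.ext (Subtype.ext (Matrix.ext fun i j => e.apply_symm_apply _))
  map_mul' A B := Subtype.ext (map_mul (Matrix.SpecialLinearGroup.map e.toRingHom) A.1 B.1)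

/-- A field isomorphism gives an isomorphism of the projective special unitary groups. -/
theorem psu_field_congr (n q : ℕ) (e : K ≃+* L) : Nonempty (Cfsg.PSU n K q ≃* Cfsg.PSU n L q) :=
  ⟨QuotientGroup.congr _ _ (suFieldEquiv n q e) (by
    ext x
    rw [Subgroup.mem_map]
    constructor
    · rintro ⟨y, hy, rfl⟩
      refine Subgroup.mem_center_iff.2 fun z => ?_
      obtain ⟨z, rfl⟩ := (suFieldEquiv n q e).surjective z
      exact (map_mul (suFieldEquiv n q e) z y).symm.trans
        ((congrArg _ (Subgroup.mem_center_iff.1 hy z)).trans (map_mul (suFieldEquiv n q e) y z))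
    · intro hx
      refine ⟨(suFieldEquiv n q e).symm x, Subgroup.mem_center_iff.2 fun y => (suFieldEquiv n q e).injective ?_,
        (suFieldEquiv n q e).apply_symm_apply x⟩
      rw [map_mul, map_mul, (suFieldEquiv n q e).apply_symm_apply]
      exact Subgroup.mem_center_iff.1 hx _)⟩

end transfer

end CfsgLib.SU.CentThree
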