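import Cfsg.Agent.Lib.SU.Field
import Cfsg.Agent.Lib.SU.Borel
import Cfsg.Agent.Lib.SU.UnitalModel

/-!
# The centralizer of a transvection in `PGU₃(2ⁿ)`

Inside `Aut PSU₃(q)` the unitary matrices centralizing a transvection have the image of the Eichler
group as normal self-centralizing Sylow 2-subgroup, whose involutions they all centralize.
-/

set_option autoImplicit false
set_option linter.unusedSectionVars false
set_option linter.style.haveILetI false

namespace CfsgLib.SU.CentThree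

open Matrix Subgroup

variable {F : Type*} [Field F] [Fintype F] [CharP F 2] {q : ℕ} {C : UCtx F q}

local notation "V" => Fin 3 → F

theorem exists_unit_perp (P : UPair C 3) :
    ∃ u : V, u ∈ P.perp ∧ C.form u u = 1 ∧ ∀ w ∈ P.perp, w = C.form w u • u := by
  obtain ⟨u, hu, huu, hub⟩ := P.exists_basis
  haveI : Subsingleton (Fin (3 - 2)) := inferInstanceAs (Subsingleton (Fin 1))
  refine ⟨u 0, hu 0, by rw [huu, if_pos rfl], fun w hw => ?_⟩
  conv_lhs => rw [hub w hw]
  exact Fintype.sum_subsingleton _ _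

theorem psu_conj_injective (C : UCtx F q) :
    Function.Injective (MulAut.conj : Cfsg.PSU 3 F q →* MulAut _) := by
  refine (injective_iff_map_eq_one _).2 fun x hx => ?_
  obtain ⟨A, rfl⟩ := QuotientGroup.mk'_surjective _ x
  obtain ⟨-, c, hc⟩ := C.eq_one_of_ind_eq_one le_rfl (g := ofSU A) (σ := 1) ((C.ind_ofSU A).trans hx)
  refine (QuotientGroup.eq_one_iff A).2 (Subgroup.mem_center_iff.2 (scalar_central (c := ((c : Fˣ) : F)) ?_))
  rw [← C.gscal_val, ← hc]
  rfl

/-- `SU₃` acting on `PSU₃` by conjugation. -/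
def toAut : ↥(Cfsg.SU 3 F q) →* MulAut (Cfsg.PSU 3 F q) :=
  (MulAut.conj).comp pr

theorem toAut_eq (C : UCtx F q) (X : ↥(Cfsg.SU 3 F q)) : toAut X = C.indHom (ofSU X) :=
  (C.ind_ofSU X).symm

/-- The image of the Eichler group. -/
def eichAut (P : UPair C 3) : Subgroup (MulAut (Cfsg.PSU 3 F q)) := P.eichGroup.map toAut

theorem one_trace : (1 : F) + C.bar 1 = 0 := by rw [map_one, CharTwo.add_self_eq_zero]

/-- The transvection of the pair with parameter `1`. -/
def transv (P : UPair C 3) : MulAut (Cfsg.PSU 3 F q) := toAut (C.tv P.e P.ee 1 one_trace)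

/-- Its centralizer among the unitary automorphisms. -/
def cent (P : UPair C 3) : Subgroup (MulAut (Cfsg.PSU 3 F q)) :=
  (C.indHom (n := 3)).range ⊓ centralizer {transv P}

theorem toAut_injOn (P : UPair C 3) {X Y : ↥(Cfsg.SU 3 F q)} (hX : X ∈ P.eichGroup)
    (hY : Y ∈ P.eichGroup) (h : toAut X = toAut Y) : X = Y := by
  obtain ⟨w, hw, t, ht, rfl⟩ := hX
  obtain ⟨w', hw', t', ht', rfl⟩ := hY
  exact C.pr_eq_fix le_rfl (psu_conj_injective C h) P.e_ne_zero (P.eich_e w hw t ht)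
    (P.eich_e w' hw' t' ht')

theorem mulVec_decomp (P : UPair C 3) {u : V} (hub : ∀ w ∈ P.perp, w = C.form w u • u) (x : V) :
    x = C.form x P.f • P.e + C.form x P.e • P.f + C.form (P.proj x) u • u := by
  conv_lhs => rw [P.decomp x, hub _ (P.proj_mem x)]

/-- A unitary matrix fixing `e` and fixing `u` modulo `e` lies in the Eichler group. -/
theorem exists_eich_of_fix (P : UPair C 3) {u : V} (hu : u ∈ P.perp)
    (huu : C.form u u = 1) (hub : ∀ w ∈ P.perp, w = C.form w u • u) (g : ↥(Cfsg.GU 3 F q))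
    (he : g.1.1 *ᵥ P.e = P.e) {c : F} (hgu : g.1.1 *ᵥ u = u + c • P.e) :
    ∃ X ∈ P.eichGroup, g = ofSU X := by
  have hfu : C.form P.f u = 0 := C.form_swap_zero hu.2
  have heu : C.form P.e u = 0 := C.form_swap_zero hu.1
  have hg := C.mem_gu_iff.1 g.2
  set t := C.form (g.1.1 *ᵥ P.f) P.f with htdef
  set k := C.form (P.proj (g.1.1 *ᵥ P.f)) u with hkdef
  have h1 : C.form (g.1.1 *ᵥ P.f) P.e = 1 := by
    conv_lhs => rw [← he]
    rw [hg, P.fe]
  have hf : g.1.1 *ᵥ P.f = t • P.e + P.f + k • u := by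
    conv_lhs => rw [mulVec_decomp P hub (g.1.1 *ᵥ P.f), h1, one_smul]
  have hck : c = -C.bar k := by
    have h := hg u P.f
    rw [hgu, hf, hu.2] at h
    simp only [C.form_add_left, C.form_add_right, C.form_smul_left, C.form_smul_right, P.ee, P.ef,
      hu.1, hu.2, huu, heu] at h
    linear_combination h
  have hk : k • u ∈ P.perp := P.perp.smul_mem k hu
  have htt : t + C.bar t + C.form (k • u) (k • u) = 0 := by
    have h := hg P.f P.f
    rw [hf, P.ff] at h
    simp only [C.form_add_left, C.form_add_right, C.form_smul_left, C.form_smul_right, P.ee, P.ef,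
      P.ff, P.fe, hu.1, hu.2, huu, heu, hfu] at h
    simp only [C.form_smul_left, C.form_smul_right, huu]
    linear_combination h
  refine ⟨P.eich (k • u) hk t htt, P.eich_mem _ hk t htt, Subtype.ext (Units.ext ?_)⟩
  refine Matrix.ext_iff_mulVec.2 fun x => ?_
  show g.1.1 *ᵥ x = (P.eich (k • u) hk t htt).1.1 *ᵥ x
  conv_lhs => rw [mulVec_decomp P hub x]
  conv_rhs => rw [mulVec_decomp P hub x]
  simp only [Matrix.mulVec_add, Matrix.mulVec_smul]
  rw [he, hgu, hf, hck, P.eich_e, P.eich_f, P.eich_perp _ hk t htt hu, C.form_smul_right, huu,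
    mul_one]
  module

theorem commute_transv_iff (P : UPair C 3) (β : MulAut (Cfsg.PSU 3 F q)) :
    β ∈ centralizer {transv P} ↔ β (pr (C.tv P.e P.ee 1 one_trace)) = pr (C.tv P.e P.ee 1 one_trace) := by
  have key : β * transv P * β⁻¹ = MulAut.conj (β (pr (C.tv P.e P.ee 1 one_trace))) := by
    refine MulEquiv.ext fun x => ?_
    show β (MulAut.conj (pr (C.tv P.e P.ee 1 one_trace)) (β.symm x)) = _
    simp
  rw [mem_centralizer_singleton_iff, ← mul_inv_eq_iff_eq_mul, key]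
  exact (psu_conj_injective C).eq_iff

theorem cent_data (P : UPair C 3) {u : V} (hu : u ∈ P.perp) (huu : C.form u u = 1)
    (hub : ∀ w ∈ P.perp, w = C.form w u • u) {β : MulAut (Cfsg.PSU 3 F q)} (hβ : β ∈ cent P) :
    ∃ (g : ↥(Cfsg.GU 3 F q)) (a μ c : F), β = C.indHom g ∧ a * C.bar a = 1 ∧ μ ≠ 0 ∧
      g.1.1 *ᵥ P.e = a • P.e ∧ g.1.1 *ᵥ u = μ • u + c • P.e := by
  obtain ⟨⟨g, rfl⟩, hc⟩ := Subgroup.mem_inf.1 hβ
  rw [commute_transv_iff, C.indHom_apply, C.ind_tv] at hc
  have hv0 : act g.1 (1 : RingAut F) P.e ≠ 0 := act_ne_zero _ _ P.e_ne_zero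
  obtain ⟨a, ha⟩ := C.pT_par le_rfl hv0 (by rw [map_one]; exact one_ne_zero) hc
  have hge : g.1.1 *ᵥ P.e = a • P.e := ha
  have hiso : C.form (a • P.e) (a • P.e) = 0 := by
    rw [C.form_smul_left, C.form_smul_right, P.ee, mul_zero, mul_zero]
  have haa : a * C.bar a = 1 := by
    have h := hc
    rw [C.tv_congr (hw := hiso) (hs := one_trace) (w := a • P.e) ha (map_one (1 : RingAut F)),
      C.tv_smul P.e P.ee a 1 one_trace] at h
    obtain ⟨x, hx0, hxe, -⟩ := C.exists_orth_two (n := 3) le_rfl P.e P.e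
    have he := C.pr_eq_fix le_rfl h hx0 (by rw [C.tv_mulVec, hxe]; simp) (by rw [C.tv_mulVec, hxe]; simp)
    have h2 := congrArg (fun T : ↥(Cfsg.SU 3 F q) => C.form (T.1.1 *ᵥ P.f) P.f) he
    simpa [C.tv_mulVec, P.fe, P.ef, P.ff, C.form_add_left, C.form_smul_left] using h2
  have ha0 : a ≠ 0 := fun h0 => by rw [h0, zero_mul] at haa; exact zero_ne_one haa
  have hg := C.mem_gu_iff.1 g.2
  have h1 : C.form (g.1.1 *ᵥ u) P.e = 0 := by
    have h := hg u P.e
    rw [hge, C.form_smul_right, hu.1] at h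
    exact (mul_eq_zero.1 h).resolve_left (by simpa using ha0)
  set μ := C.form (P.proj (g.1.1 *ᵥ u)) u
  set c := C.form (g.1.1 *ᵥ u) P.f
  have hgu : g.1.1 *ᵥ u = μ • u + c • P.e := by
    conv_lhs => rw [mulVec_decomp P hub (g.1.1 *ᵥ u), h1]
    simp [add_comm]
    rfl
  refine ⟨g, a, μ, c, rfl, haa, fun h0 => ?_, hge, hgu⟩
  have h := hg u u
  rw [hgu, h0, zero_smul, zero_add, huu, C.form_smul_left, C.form_smul_right, P.ee, mul_zero,
    mul_zero] at h
  exact zero_ne_one h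

theorem eichAut_le_cent (P : UPair C 3) : eichAut P ≤ cent P := by
  rintro _ ⟨X, ⟨w, hw, t, ht, rfl⟩, rfl⟩
  have h0 : (1 : F) + C.bar 1 + C.form (0 : V) 0 = 0 := by rw [C.form_zero_left, add_zero]; exact one_trace
  refine Subgroup.mem_inf.2 ⟨⟨_, (toAut_eq C _).symm⟩, mem_centralizer_singleton_iff.2 ?_⟩
  rw [transv, ← map_mul, ← map_mul]
  refine congrArg toAut ?_
  rw [← P.eich_zero_eq_tv 1 h0, P.eich_mul, P.eich_mul]
  exact P.eich_congr (by rw [add_zero, zero_add]) (by rw [C.form_zero_left, C.form_zero_right]; ring)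

theorem cent_le_normalizer (P : UPair C 3) : cent P ≤ normalizer (eichAut P : Set _) := by
  obtain ⟨u, hu, huu, hub⟩ := exists_unit_perp P
  suffices key : ∀ β ∈ cent P, ∀ z ∈ eichAut P, β * z * β⁻¹ ∈ eichAut P by
    intro β hβ
    refine Subgroup.mem_normalizer_iff.2 fun z => ⟨key β hβ z, fun h => ?_⟩
    have := key β⁻¹ (inv_mem hβ) _ h
    rwa [show β⁻¹ * (β * z * β⁻¹) * β⁻¹⁻¹ = z by group] at this
  intro β hβ z hz
  obtain ⟨X, ⟨w, hw, t, ht, rfl⟩, rfl⟩ := hz
  obtain ⟨g, a, μ, c, rfl, haa, hμ, hge, hgu⟩ := cent_data P hu huu hub hβ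
  have ha0 : a ≠ 0 := fun h0 => by rw [h0, zero_mul] at haa; exact zero_ne_one haa
  set h := g * ofSU (P.eich w hw t ht) * g⁻¹ with hh
  have hcomm : ∀ x : V, h.1.1 *ᵥ (g.1.1 *ᵥ x) = g.1.1 *ᵥ ((P.eich w hw t ht).1.1 *ᵥ x) := by
    intro x
    rw [Matrix.mulVec_mulVec, Matrix.mulVec_mulVec]
    congr 1
    show ((g * ofSU (P.eich w hw t ht) * g⁻¹).1 * g.1).1 = (g.1 * (ofSU (P.eich w hw t ht)).1).1
    congr 1
    rw [Subgroup.coe_mul, Subgroup.coe_mul, Subgroup.coe_inv, inv_mul_cancel_right]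
  have hhe : h.1.1 *ᵥ P.e = P.e := by
    have := hcomm P.e
    rw [hge, P.eich_e, hge, Matrix.mulVec_smul] at this
    exact smul_right_injective V ha0 this
  have hhu : h.1.1 *ᵥ u = u + (-(μ⁻¹ * (C.form u w * a))) • P.e := by
    have := hcomm u
    rw [P.eich_perp w hw t ht hu, Matrix.mulVec_sub, Matrix.mulVec_smul, hge, hgu, Matrix.mulVec_add,
      Matrix.mulVec_smul, Matrix.mulVec_smul, hhe] at this
    refine smul_right_injective V hμ ?_
    show μ • (h.1.1 *ᵥ u) = μ • (u + (-(μ⁻¹ * (C.form u w * a))) • P.e)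
    rw [eq_sub_iff_add_eq.2 this, smul_add, neg_smul, smul_neg, smul_smul μ, mul_inv_cancel_left₀ hμ]
    module
  obtain ⟨Y, hY, hYh⟩ := exists_eich_of_fix P hu huu hub h hhe hhu
  exact ⟨Y, hY, by rw [toAut_eq C, ← hYh, hh, map_mul, map_mul, map_inv, ← toAut_eq C]⟩

/-- An odd power of every element of the centralizer lies in the Eichler group. -/
theorem pow_mem_eichAut (P : UPair C 3) {β : MulAut (Cfsg.PSU 3 F q)} (hβ : β ∈ cent P) :
    β ^ (Fintype.card F - 1) ∈ eichAut P := by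
  obtain ⟨u, hu, huu, hub⟩ := exists_unit_perp P
  obtain ⟨g, a, μ, c, rfl, haa, hμ, hge, hgu⟩ := cent_data P hu huu hub hβ
  have ha0 : a ≠ 0 := fun h0 => by rw [h0, zero_mul] at haa; exact zero_ne_one haa
  have hpow : ∀ m : ℕ, (g ^ m).1.1 *ᵥ P.e = a ^ m • P.e ∧
      ∃ d : F, (g ^ m).1.1 *ᵥ u = μ ^ m • u + d • P.e := by
    intro m
    induction m with
    | zero => exact ⟨by simp, 0, by simp⟩
    | succ m ih =>
      obtain ⟨h1, d, h2⟩ := ih
      have e : ∀ x : V, (g ^ (m + 1)).1.1 *ᵥ x = g.1.1 *ᵥ ((g ^ m).1.1 *ᵥ x) := fun x => by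
        rw [pow_succ', Matrix.mulVec_mulVec]; rfl
      refine ⟨by rw [e, h1, Matrix.mulVec_smul, hge, smul_smul, pow_succ], μ ^ m * c + d * a, ?_⟩
      rw [e, h2, Matrix.mulVec_add, Matrix.mulVec_smul, Matrix.mulVec_smul, hge, hgu, pow_succ]
      module
  obtain ⟨h1, d, h2⟩ := hpow (Fintype.card F - 1)
  rw [FiniteField.pow_card_sub_one_eq_one a ha0, one_smul] at h1
  rw [FiniteField.pow_card_sub_one_eq_one μ hμ, one_smul] at h2
  obtain ⟨Y, hY, hYh⟩ := exists_eich_of_fix P hu huu hub _ h1 h2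
  exact ⟨Y, hY, by rw [toAut_eq C, ← hYh, map_pow]⟩

/-- The centralizer of the Eichler group. -/
theorem centralizer_eichAut_le (P : UPair C 3) {β : MulAut (Cfsg.PSU 3 F q)} (hβ : β ∈ cent P)
    (hc : ∀ z ∈ eichAut P, z * β = β * z) : β ∈ eichAut P := by
  obtain ⟨u, hu, huu, hub⟩ := exists_unit_perp P
  obtain ⟨g, a, μ, c, rfl, haa, hμ, hge, hgu⟩ := cent_data P hu huu hub hβ
  have ha0 : a ≠ 0 := fun h0 => by rw [h0, zero_mul] at haa; exact zero_ne_one haa
  obtain ⟨t, ht⟩ := C.exists_trace (c := -1) (by rw [map_neg, map_one])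
  have ht' : t + C.bar t + C.form u u = 0 := by rw [ht, huu, neg_add_cancel]
  set X := P.eich u hu t ht'
  have hfix : C.indHom g (pr X) = pr X := by
    refine psu_conj_injective C ?_
    have e := hc (MulAut.conj (pr X)) ⟨X, P.eich_mem u hu t ht', rfl⟩
    calc MulAut.conj (C.indHom g (pr X)) = C.indHom g * MulAut.conj (pr X) * (C.indHom g)⁻¹ := by
          refine MulEquiv.ext fun x => ?_
          show _ = C.indHom g (MulAut.conj (pr X) ((C.indHom g).symm x))
          simp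
      _ = MulAut.conj (pr X) := by rw [← e, mul_inv_cancel_right]
  rw [C.indHom_apply, C.ind_pr] at hfix
  have he : ∀ x : V, (suConj g (C.suField 1 X)).1.1 *ᵥ (g.1.1 *ᵥ x) = g.1.1 *ᵥ (X.1.1 *ᵥ x) :=
    fun x => C.conj_field_act g 1 X x
  have hYe : (suConj g (C.suField 1 X)).1.1 *ᵥ P.e = P.e := by
    have := he P.e
    rw [hge, P.eich_e, hge, Matrix.mulVec_smul] at this
    exact smul_right_injective V ha0 this
  have hXY := C.pr_eq_fix le_rfl hfix P.e_ne_zero hYe (P.eich_e u hu t ht')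
  have h3 := he u
  rw [hXY, P.eich_perp u hu t ht' hu, huu, one_smul, Matrix.mulVec_sub, hge, hgu, Matrix.mulVec_add,
    Matrix.mulVec_smul, Matrix.mulVec_smul, P.eich_e, P.eich_perp u hu t ht' hu, huu, one_smul] at h3
  have hμa : μ = a := by
    have h4 := congrArg (fun z => C.form z P.f) h3
    simp [C.form_sub_left, C.form_add_left, C.form_smul_left, hu.2, P.ef] at h4
    linear_combination -h4
  subst hμa
  set k : C.unitOne := ⟨Units.mk0 μ hμ, C.mem_unitOne.2 haa⟩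
  have hk : ((C.gscal (n := 3) k⁻¹) * g).1.1 *ᵥ P.e = P.e ∧
      ((C.gscal (n := 3) k⁻¹) * g).1.1 *ᵥ u = u + (μ⁻¹ * c) • P.e := by
    have e : ∀ x : V, ((C.gscal (n := 3) k⁻¹) * g).1.1 *ᵥ x = μ⁻¹ • (g.1.1 *ᵥ x) := fun x => by
      show ((C.gscal (n := 3) k⁻¹).1.1 * g.1.1) *ᵥ x = _
      rw [C.gscal_val, smul_mul_assoc, one_mul, Matrix.smul_mulVec]
      congr 1
    exact ⟨by rw [e, hge, inv_smul_smul₀ hμ], by rw [e, hgu, smul_add, inv_smul_smul₀ hμ, smul_smul]⟩
  obtain ⟨Y, hY, hYh⟩ := exists_eich_of_fix P hu huu hub _ hk.1 hk.2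
  exact ⟨Y, hY, by rw [toAut_eq C, ← hYh, C.indHom_apply, C.indHom_apply, C.ind_gscal_mul]⟩

/-- The involutions of the Eichler group commute with the centralizer of the transvection. -/
theorem involution_central (P : UPair C 3) {z : MulAut (Cfsg.PSU 3 F q)} (hz : z ∈ eichAut P)
    (hz2 : z * z = 1) {β : MulAut (Cfsg.PSU 3 F q)} (hβ : β ∈ cent P) : z * β = β * z := by
  obtain ⟨u, hu, huu, hub⟩ := exists_unit_perp P
  obtain ⟨X, hX, rfl⟩ := hz
  have hXX : X * X = 1 := toAut_injOn P (mul_mem hX hX) (one_mem _) (by rw [map_mul, map_one]; exact hz2)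
  obtain ⟨w, hw, t, ht, rfl⟩ := hX
  have hw0 : w = 0 := by
    have h1 := congrArg (fun X : ↥(Cfsg.SU 3 F q) => C.form (X.1.1 *ᵥ P.f) P.f) hXX
    rw [P.eich_mul] at h1
    simp [P.eich_f, C.form_add_left, hw.2, P.ef, P.ff, C.form_neg_left, C.form_sub_left, C.form_smul_left,
      CharTwo.add_self_eq_zero] at h1
    have hk := hub w hw
    rw [hk, C.form_smul_left, C.form_smul_right, huu, mul_one, mul_eq_zero] at h1
    rcases h1 with h1 | h1
    · rw [hk, h1, zero_smul]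
    · rw [hk, show C.form w u = 0 by simpa using h1, zero_smul]
  subst hw0
  have ht0 : t + C.bar t = 0 := by rwa [C.form_zero_left, add_zero] at ht
  obtain ⟨g, a, μ, c, rfl, haa, hμ, hge, hgu⟩ := cent_data P hu huu hub hβ
  have hfix : C.indHom g (pr (P.eich 0 hw t ht)) = pr (P.eich 0 hw t ht) := by
    rw [P.eich_zero_eq_tv t ht, C.indHom_apply, C.ind_tv]
    refine congrArg pr ?_
    have hiso : C.form (a • P.e) (a • P.e) = 0 := by
      rw [C.form_smul_left, C.form_smul_right, P.ee, mul_zero, mul_zero]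
    have h1 := C.tv_congr (v := act g.1 (1 : RingAut F) P.e) (w := a • P.e)
      (hv := by rw [C.form_act, P.ee, map_zero]) (hw := hiso) (t := (1 : RingAut F) t) (s := t)
      (ht := by simpa using ht0) (hs := ht0) hge rfl
    rw [h1, C.tv_smul P.e P.ee a t ht0]
    exact C.tv_congr rfl (by rw [haa, one_mul])
  refine MulEquiv.ext fun x => ?_
  show MulAut.conj (pr (P.eich 0 hw t ht)) (C.indHom g x) = C.indHom g (MulAut.conj (pr (P.eich 0 hw t ht)) x)
  rw [MulAut.conj_apply, MulAut.conj_apply, map_mul, map_mul, map_inv, hfix]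

theorem isPGroup_eichAut (P : UPair C 3) : IsPGroup 2 (eichAut P) :=
  haveI : Fact (Nat.Prime 2) := ⟨Nat.prime_two⟩
  (P.isPGroup_eichGroup 2).map _

theorem card_eichAut (P : UPair C 3) (hF : Fintype.card F = q ^ 2) : Nat.card (eichAut P) = q ^ 3 := by
  obtain ⟨U, -⟩ := P.exists_unital
  rw [← U.card_eq (q := q) (by rw [Nat.card_eq_fintype_card, hF])]
  refine (Nat.card_image_of_injOn (s := (P.eichGroup : Set ↥(Cfsg.SU 3 F q))) ?_)
  exact fun X hX Y hY h => toAut_injOn P hX hY h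

theorem exists_noncommuting (P : UPair C 3) :
    ∃ z ∈ eichAut P, ∃ w ∈ eichAut P, z * w ≠ w * z := by
  obtain ⟨U, -⟩ := P.exists_unital
  obtain ⟨x, hx⟩ := U.exists_pi 1
  have hxc : x ∉ Subgroup.center ↥P.eichGroup := fun h => by
    rw [U.mem_center_iff, hx] at h; exact one_ne_zero h
  rw [Subgroup.mem_center_iff, not_forall] at hxc
  obtain ⟨y, hy⟩ := hxc
  refine ⟨_, mem_map_of_mem _ y.2, _, mem_map_of_mem _ x.2, fun h => hy (Subtype.ext ?_)⟩
  rw [← map_mul, ← map_mul] at h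
  exact toAut_injOn P (mul_mem y.2 x.2) (mul_mem x.2 y.2) h

theorem exists_two_involutions (P : UPair C 3) (hF : Fintype.card F = q ^ 2) (hq : 2 < q) :
    ∃ z ∈ eichAut P, ∃ w ∈ eichAut P, z ≠ 1 ∧ w ≠ 1 ∧ z ≠ w ∧ z * z = 1 ∧ w * w = 1 := by
  classical
  have hcard : Nat.card {k : F // C.bar k = k} = q := by
    have h := card_fixed_sq (bar := C.bar.toRingHom) C.bar_bar C.exists_not_fixed
    rw [Nat.card_eq_fintype_card (α := F), hF] at h
    exact Nat.pow_left_injective (by norm_num) h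
  obtain ⟨t, ht, ht0, ht1⟩ : ∃ t : F, C.bar t = t ∧ t ≠ 0 ∧ t ≠ 1 := by
    by_contra h
    push Not at h
    have hle : Nat.card {k : F // C.bar k = k} ≤ ({0, 1} : Finset F).card := by
      rw [← Nat.card_eq_finsetCard]
      refine Nat.card_le_card_of_injective (fun k => ⟨k.1, ?_⟩) fun a b h => Subtype.ext (Subtype.mk.inj h)
      rcases eq_or_ne k.1 0 with e | e <;> simp [e]
      exact h k.1 k.2 e
    have := hle.trans Finset.card_le_two
    omega
  have hz : ∀ s : F, C.bar s = s → s + C.bar s + C.form (0 : V) 0 = 0 := fun s hs => by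
    rw [hs, C.form_zero_left, add_zero, CharTwo.add_self_eq_zero]
  have h1 := hz 1 (map_one _)
  have h2 := hz t ht
  have h0 := hz 0 (map_zero _)
  have hinj : ∀ {s s' : F} (hs : s + C.bar s + C.form (0 : V) 0 = 0) (hs' : s' + C.bar s' + C.form (0 : V) 0 = 0),
      toAut (P.eich 0 P.perp.zero_mem s hs) = toAut (P.eich 0 P.perp.zero_mem s' hs') → s = s' :=
    fun hs hs' h => (P.eich_inj (toAut_injOn P (P.eich_mem _ _ _ hs) (P.eich_mem _ _ _ hs') h)).2
  have hone : P.eich 0 P.perp.zero_mem 0 h0 = 1 := su_ext fun x => by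
    rw [P.eich_mulVec, su_one_mulVec, C.form_zero_right]; simp
  have hsq : ∀ s (hs : s + C.bar s + C.form (0 : V) 0 = 0),
      toAut (P.eich 0 P.perp.zero_mem s hs) * toAut (P.eich 0 P.perp.zero_mem s hs) = 1 := by
    intro s hs
    rw [← map_mul, P.eich_mul, P.eich_congr (hw' := P.perp.zero_mem) (ht' := h0) (add_zero _)
      (by rw [C.form_zero_left, sub_zero, CharTwo.add_self_eq_zero]), hone, map_one]
  refine ⟨_, mem_map_of_mem _ (P.eich_mem 0 P.perp.zero_mem 1 h1), _,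
    mem_map_of_mem _ (P.eich_mem 0 P.perp.zero_mem t h2), fun e => ?_, fun e => ?_,
    fun e => ht1 (hinj h1 h2 e).symm, hsq 1 h1, hsq t h2⟩
  · exact one_ne_zero (hinj h1 h0 (by rw [e, hone, map_one]))
  · exact ht0 (hinj h2 h0 (by rw [e, hone, map_one]))

end CfsgLib.SU.CentThree
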