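import Cfsg.Agent.Lib.SU.InvolCentThree.Global
import Cfsg.Agent.Lib.SU.InvolCentThree.Models

/-!
# A group with the involution centralizers of `PGU₃(2ⁿ)`: the normal subgroup `PSU₃(2ⁿ)`
-/

set_option autoImplicit false
set_option linter.unusedSectionVars false
set_option linter.style.haveILetI false

namespace CfsgLib.SU.CentThree

open Subgroup

universe u

variable {G : Type u} [Group G] [Finite G] {q : ℕ}

/-- An isomorphism carries a non-commutative Sylow subgroup to a non-commutative one. -/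
theorem exists_sylow_noncomm {L X : Type*} [Group L] [Group X] [Finite L] [Finite X] (E : L ≃* X)
    (P : Sylow 2 L) {a b : L} (ha : a ∈ (P : Subgroup L)) (hb : b ∈ (P : Subgroup L))
    (hab : a * b ≠ b * a) :
    ∃ Q : Sylow 2 X, ∃ a' ∈ (Q : Subgroup X), ∃ b' ∈ (Q : Subgroup X), a' * b' ≠ b' * a' := by
  haveI : Fact (Nat.Prime 2) := ⟨Nat.prime_two⟩
  refine ⟨P.mapSurjective (f := E.toMonoidHom) E.surjective, E a, ⟨a, ha, rfl⟩, E b, ⟨b, hb, rfl⟩,
    fun h => hab (E.injective ?_)⟩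
  rw [map_mul, map_mul, h]

theorem exists_psu_normal {F : Type*} [Field F] [Fintype F] (h : Hyp q G) (hF : Fintype.card F = q ^ 2)
    (hq : 2 < q) : ∃ L : Subgroup G, L.Normal ∧ Odd L.index ∧ Nonempty (L ≃* Cfsg.PSU 3 F q) := by
  classical
  haveI : Fact (Nat.Prime 2) := ⟨Nat.prime_two⟩
  obtain ⟨x, hx⟩ := h.exists_invol
  obtain ⟨S, hN⟩ := h.nbhd x hx
  have hH := hN.stronglyEmbedded h hx
  have hp := hN.hasPair h hx
  have hcore : (normalizer (S : Set G)).normalCore = ⊥ := by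
    rw [← CfsgLib.Bender.Suzuki.pPrimeCore_eq_normalCore hH hp, hN.core_eq_bot h hx]
  obtain ⟨-, -, L, hL, hodd, hcases⟩ := CfsgLib.Bender.Suzuki.exists_normal_families hH hcore hp
  haveI := hL
  obtain ⟨P, hP⟩ := hN.exists_sylow h hx
  have hSL := hN.le_of_odd_index (L := L) hodd
  have hPL : (P : Subgroup G) ≤ L := hP ▸ hSL
  set P₁ : Sylow 2 L := P.subtype hPL with hP₁
  have hcardP : Nat.card (P₁ : Subgroup L) = q ^ 3 := by
    rw [hP₁, Sylow.coe_subtype, Nat.card_congr (Subgroup.subgroupOfEquivOfLe hPL).toEquiv, hP, hN.card_eq]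
  have hmemP : ∀ a : L, a ∈ (P₁ : Subgroup L) ↔ (a : G) ∈ S := fun a => by
    rw [hP₁, Sylow.coe_subtype, Subgroup.mem_subgroupOf, hP]
  rcases hcases with ⟨K, i1, i2, ⟨n, hn, hK⟩, ⟨E⟩⟩ | ⟨K, i1, i2, m, hm, hK, ⟨E⟩⟩ | ⟨K, i1, i2, n, hn, hK, ⟨E⟩⟩
  · exfalso
    obtain ⟨a, ha, b, hb, hab⟩ := hN.noncomm
    obtain ⟨Q, a', ha', b', hb', hab'⟩ := exists_sylow_noncomm E P₁ (a := ⟨a, hSL ha⟩) (b := ⟨b, hSL hb⟩)
      ((hmemP _).2 ha) ((hmemP _).2 hb) (fun e => hab (congrArg Subtype.val e))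
    exact hab' (psl_two_sylow_comm hK (by omega) Q a' ha' b' hb')
  · exfalso
    obtain ⟨w⟩ := CfsgLib.Lie.Suz.exists_twEquiv (F := K) (m := m) hm hK
    let E' : L ≃* Cfsg.Sz K m := E.trans w.symm
    let Q : Sylow 2 (Cfsg.Sz K m) := P₁.mapSurjective (f := E'.toMonoidHom) E'.surjective
    have hQ : Nat.card (Q : Subgroup (Cfsg.Sz K m)) = q ^ 3 := by
      rw [← hcardP]
      exact Subgroup.card_map_of_injective E'.injective
    obtain ⟨hc, ι, hι, hι'⟩ := suz_sylow hm hK Q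
    have hle : Fintype.card K ≤ q := by
      refine le_trans ?_ hN.card_invol
      rw [← Nat.card_eq_fintype_card]
      have hpre : ∀ b : K, ∃ a : G, (a ∈ S ∧ a * a = 1) ∧ ∃ ha : a ∈ L, E' ⟨a, ha⟩ = ι b := by
        intro b
        obtain ⟨a, ha, hab⟩ := Subgroup.mem_map.1 (show ι b ∈ (P₁ : Subgroup L).map E'.toMonoidHom from (hι' b).1)
        refine ⟨a.1, ⟨(hmemP a).1 ha, ?_⟩, a.2, hab⟩
        have h1 : E' (a * a) = E' 1 := by
          rw [map_mul, map_one, show E' a = ι b from hab, (hι' b).2]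
        exact congrArg Subtype.val (E'.injective h1)
      choose j hj hj' hj'' using hpre
      refine Nat.card_le_card_of_injective (fun b => (⟨j b, hj b⟩ : {a : G // a ∈ S ∧ a * a = 1})) fun b c e => hι ?_
      rw [← hj'' b, ← hj'' c]
      exact congrArg E' (Subtype.ext (Subtype.mk.inj e))
    have h1 : q ^ 3 ≤ q ^ 2 := by
      rw [← hQ, hc]
      exact Nat.pow_le_pow_left hle 2
    exact absurd h1 (not_le.2 (Nat.pow_lt_pow_right (by omega) (by norm_num)))
  · haveI := CfsgLib.Bender.Suzuki.charTwo_of_card (F := K) (n := n * 2) (by rw [hK, pow_mul])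
    let Q : Sylow 2 (Cfsg.PSU 3 K (2 ^ n)) := P₁.mapSurjective (f := E.toMonoidHom) E.surjective
    obtain ⟨U, -⟩ := CfsgLib.SU.unital_sylow_psu (n := n) (by omega) hK Q
    have hc := U.card_eq (q := 2 ^ n) (by rw [Nat.card_eq_fintype_card, hK])
    have hQ : Nat.card (Q : Subgroup (Cfsg.PSU 3 K (2 ^ n))) = q ^ 3 := by
      rw [← hcardP]
      exact Subgroup.card_map_of_injective E.injective
    have hqn : 2 ^ n = q := Nat.pow_left_injective (by norm_num) (hc.symm.trans hQ)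
    subst hqn
    obtain ⟨e⟩ := psu_field_congr 3 (2 ^ n) (FiniteField.ringEquivOfCardEq (K := K) (K' := F) (hK.trans hF.symm))
    exact ⟨L, hL, hodd, ⟨E.trans e⟩⟩

end CfsgLib.SU.CentThree
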