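import Cfsg.Agent.Lib.SU.InvolCentThree.Local

/-!
# A group with the involution centralizers of `PGU₃(2ⁿ)`: a strongly embedded subgroup
-/

set_option autoImplicit false
set_option linter.unusedSectionVars false
set_option linter.style.haveILetI false

namespace CfsgLib.SU.CentThree

open Subgroup
open CfsgLib.Invol (invol_iff invol_mul_self invol_ne_one invol_conj invol_conj_mul invol_conj_mul'
  commute_pow_half orderOf_pow_half exists_conj_eq_of_odd)

variable {G : Type*} [Group G] [Finite G] {q : ℕ}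

/-- The hypotheses on the group. -/
structure Hyp (q : ℕ) (G : Type*) [Group G] : Prop where
  nbhd : ∀ x : G, orderOf x = 2 → ∃ S : Subgroup G, Nbhd q x S
  card_cent : ∀ x y : G, orderOf x = 2 → orderOf y = 2 →
    Nat.card (centralizer ({x} : Set G)) = Nat.card (centralizer ({y} : Set G))
  conj : ∀ s t : G, orderOf s = 2 → orderOf t = 2 → IsConj s t
  not_normal : ∀ P : Sylow 2 G, ¬ (P : Subgroup G).Normal
  exists_invol : ∃ x : G, orderOf x = 2

variable {x z : G} {S : Subgroup G}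

theorem Nbhd.self_mem (hN : Nbhd q x S) (hx : orderOf x = 2) : x ∈ S :=
  (hN.mem_iff x).2 ⟨rfl, 1, by rw [pow_one, pow_two, invol_mul_self hx]⟩

theorem Nbhd.isPGroup (hN : Nbhd q x S) : IsPGroup 2 S := fun a => by
  obtain ⟨-, k, hk⟩ := (hN.mem_iff a).1 a.2
  exact ⟨k, Subtype.ext hk⟩

theorem Nbhd.unique {S' : Subgroup G} (hN : Nbhd q x S) (hN' : Nbhd q x S') : S = S' :=
  Subgroup.ext fun a => by rw [hN.mem_iff, hN'.mem_iff]

theorem Nbhd.cent_iff (hN : Nbhd q x S) (h : Hyp q G) (hx : orderOf x = 2) (hz : z ∈ S)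
    (hzo : orderOf z = 2) (a : G) : a * z = z * a ↔ a * x = x * a := by
  have hle : centralizer ({x} : Set G) ≤ centralizer ({z} : Set G) := fun b hb =>
    mem_centralizer_singleton_iff.2
      (hN.invol_comm z hz (invol_mul_self hzo) b (mem_centralizer_singleton_iff.1 hb)).symm
  have heq := Subgroup.eq_of_le_of_card_ge hle (h.card_cent z x hzo hx).le
  rw [← mem_centralizer_singleton_iff, ← mem_centralizer_singleton_iff, heq]

/-- All involutions of `S` have the same neighbourhood. -/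
theorem Nbhd.transfer (hN : Nbhd q x S) (h : Hyp q G) (hx : orderOf x = 2) (hz : z ∈ S)
    (hzo : orderOf z = 2) : Nbhd q z S where
  mem_iff a := by rw [hN.mem_iff, hN.cent_iff h hx hz hzo]
  card_eq := hN.card_eq
  card_invol := hN.card_invol
  self_cent a ha := hN.self_cent a ((hN.cent_iff h hx hz hzo a).1 ha)
  invol_comm w hw hw2 a ha := hN.invol_comm w hw hw2 a ((hN.cent_iff h hx hz hzo a).1 ha)
  two_invol := hN.two_invol
  noncomm := hN.noncomm

theorem Nbhd.conj (hN : Nbhd q x S) (h : Hyp q G) (hx : orderOf x = 2) (g : G) :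
    Nbhd q (g * x * g⁻¹) (S.map (MulAut.conj g).toMonoidHom) := by
  obtain ⟨T, hT⟩ := h.nbhd _ (invol_conj hx g)
  suffices e : T = S.map (MulAut.conj g).toMonoidHom by rwa [← e]
  ext a
  rw [hT.mem_iff, Subgroup.mem_map]
  constructor
  · rintro ⟨ha, k, hk⟩
    refine ⟨g⁻¹ * a * g, (hN.mem_iff _).2 ⟨?_, k, ?_⟩, by simp [mul_assoc]⟩
    · calc g⁻¹ * a * g * x = g⁻¹ * (a * (g * x * g⁻¹)) * g := by group
        _ = g⁻¹ * (g * x * g⁻¹ * a) * g := by rw [ha]
        _ = x * (g⁻¹ * a * g) := by group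
    · have := map_pow (MulAut.conj g⁻¹) a (2 ^ k)
      simp only [MulAut.conj_apply, inv_inv] at this
      rw [← this, hk, mul_one, inv_mul_cancel]
  · rintro ⟨b, hb, rfl⟩
    obtain ⟨hbx, k, hk⟩ := (hN.mem_iff b).1 hb
    refine ⟨?_, k, ?_⟩
    · rw [MulEquiv.coe_toMonoidHom, MulAut.conj_apply]
      calc g * b * g⁻¹ * (g * x * g⁻¹) = g * (b * x) * g⁻¹ := by group
        _ = g * x * g⁻¹ * (g * b * g⁻¹) := by rw [hbx]; group
    · rw [← map_pow, hk, map_one]

/-- `S` is a Sylow 2-subgroup. -/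
theorem Nbhd.exists_sylow (hN : Nbhd q x S) (h : Hyp q G) (hx : orderOf x = 2) :
    ∃ P : Sylow 2 G, (P : Subgroup G) = S := by
  haveI : Fact (Nat.Prime 2) := ⟨Nat.prime_two⟩
  obtain ⟨P, hP⟩ := hN.isPGroup.exists_le_sylow
  haveI : Nontrivial ↥(P : Subgroup G) :=
    ⟨⟨x, hP (hN.self_mem hx)⟩, 1, fun e => invol_ne_one hx (congrArg Subtype.val e)⟩
  haveI := P.isPGroup'.center_nontrivial
  obtain ⟨n, hn, hc⟩ := (P.isPGroup'.to_subgroup (center ↥(P : Subgroup G))).nontrivial_iff_card.1 inferInstance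
  obtain ⟨z, hz⟩ := exists_prime_orderOf_dvd_card' 2 (hc ▸ dvd_pow_self 2 hn.ne')
  have hzo : orderOf (z.1.1 : G) = 2 := by rw [Subgroup.orderOf_coe, Subgroup.orderOf_coe, hz]
  have hzc : ∀ a ∈ (P : Subgroup G), a * z.1.1 = z.1.1 * a := fun a ha =>
    congrArg Subtype.val (mem_center_iff.1 z.2 ⟨a, ha⟩)
  have hzS : z.1.1 ∈ S := (hN.mem_iff _).2
    ⟨(hzc x (hP (hN.self_mem hx))).symm, 1, by rw [pow_one, pow_two, invol_mul_self hzo]⟩
  refine ⟨P, le_antisymm (fun a ha => ?_) hP⟩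
  obtain ⟨k, hk⟩ := P.isPGroup' ⟨a, ha⟩
  exact ((hN.transfer h hx hzS hzo).mem_iff a).2 ⟨hzc a ha, k, congrArg Subtype.val hk⟩

theorem Nbhd.invol_mem_normalizer (hN : Nbhd q x S) (h : Hyp q G) (hx : orderOf x = 2)
    (hzo : orderOf z = 2) (hz : z ∈ normalizer (S : Set G)) : z ∈ S := by
  haveI : Fact (Nat.Prime 2) := ⟨Nat.prime_two⟩
  obtain ⟨P, hP⟩ := hN.exists_sylow h hx
  have hp : IsPGroup 2 (zpowers z) := IsPGroup.of_card (n := 1) (by rw [Nat.card_zpowers, hzo, pow_one])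
  have h2 := hp.inf_normalizer_sylow P
  have h3 := (h2.le (Subgroup.mem_inf.2 ⟨mem_zpowers z, by show z ∈ normalizer ((P : Subgroup G) : Set G); rw [hP]; exact hz⟩)).2
  exact hP ▸ h3

theorem Nbhd.normalizer_mem {g : G} (hN : Nbhd q x S) (h : Hyp q G) (hx : orderOf x = 2) (hz : z ∈ S)
    (hzo : orderOf z = 2) (hg : g * z * g⁻¹ ∈ S) : g ∈ normalizer (S : Set G) := by
  have h1 := (hN.transfer h hx hz hzo).conj h hzo g
  have h2 := hN.transfer h hx hg (invol_conj hzo g)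
  have e := h1.unique h2
  refine Subgroup.mem_normalizer_iff.2 fun a => ?_
  conv_rhs => rw [← e, Subgroup.mem_map]
  simp

theorem Nbhd.stronglyEmbedded (hN : Nbhd q x S) (h : Hyp q G) (hx : orderOf x = 2) :
    Cfsg.IsStronglyEmbedded (normalizer (S : Set G)) := by
  have hxH : x ∈ normalizer (S : Set G) := le_normalizer (hN.self_mem hx)
  refine ⟨fun e => ?_, even_iff_two_dvd.2 (hx ▸ orderOf_dvd_natCard _ hxH), fun g hg => ?_⟩
  · obtain ⟨P, hP⟩ := hN.exists_sylow h hx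
    exact h.not_normal P (by rw [hP]; exact normalizer_eq_top_iff.1 e)
  rw [← Nat.not_even_iff_odd]
  intro hev
  haveI : Fact (Nat.Prime 2) := ⟨Nat.prime_two⟩
  obtain ⟨⟨z, hzm⟩, hzo⟩ := exists_prime_orderOf_dvd_card' 2 (even_iff_two_dvd.1 hev)
  rw [Subgroup.orderOf_mk] at hzo
  obtain ⟨hz1, hz2⟩ := Subgroup.mem_inf.1 hzm
  obtain ⟨w, hw, hwz⟩ := Subgroup.mem_map.1 hz2
  have hwo : orderOf w = 2 := by rw [← hzo, ← hwz]; exact ((MulAut.conj g).orderOf_eq w).symm
  refine hg (hN.normalizer_mem h hx (hN.invol_mem_normalizer h hx hwo hw) hwo ?_)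
  rw [show g * w * g⁻¹ = z from hwz]
  exact hN.invol_mem_normalizer h hx hzo hz1

theorem Nbhd.exists_invol_notMem (hN : Nbhd q x S) (h : Hyp q G) (hx : orderOf x = 2) :
    ∃ t : G, orderOf t = 2 ∧ t ∉ S := by
  by_contra hcon
  push Not at hcon
  refine (hN.stronglyEmbedded h hx).1 (eq_top_iff.2 fun g _ => ?_)
  exact hN.normalizer_mem h hx (hN.self_mem hx) hx (hcon _ (invol_conj hx g))

theorem Nbhd.core_eq_bot (hN : Nbhd q x S) (h : Hyp q G) (hx : orderOf x = 2) :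
    Cfsg.pPrimeCore 2 G = ⊥ := by
  obtain ⟨z, hz, w, hw, hz1, hw1, hne, hz2, hw2⟩ := hN.two_invol
  haveI := CfsgLib.Coprime.pPrimeCore_characteristic (G := G) 2
  have hcop := CfsgLib.Coprime.pPrimeCore_coprime (G := G) (p := 2) Nat.prime_two
  have hzo : orderOf z = 2 := invol_iff.2 ⟨hz2, hz1⟩
  have hwo : orderOf w = 2 := invol_iff.2 ⟨hw2, hw1⟩
  set A := closure ({z, w} : Set G) with hA
  have hAS : A ≤ S := (closure_le _).2 (Set.insert_subset_iff.2 ⟨hz, Set.singleton_subset_iff.2 hw⟩)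
  have hcomm : Commute z w :=
    (((hN.transfer h hx hw hwo).mem_iff z).1 hz).1
  haveI hAc : IsMulCommutative A := by
    refine le_centralizer_iff_isMulCommutative.1 ((closure_le _).2 ?_)
    intro a ha
    rw [SetLike.mem_coe, hA, centralizer_closure, mem_centralizer_iff]
    intro b hb
    rcases ha with rfl | rfl <;> rcases hb with rfl | rfl <;> first | rfl | exact hcomm | exact hcomm.symm
  have hcard : Nat.card A = 4 := by
    rw [hA, CfsgLib.Invol.card_closure_pair hzo hwo]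
    have h2 : orderOf (z * w) = 2 := invol_iff.2 ⟨by
      rw [mul_assoc, ← mul_assoc w z w, ← hcomm.eq, mul_assoc z w w, hw2, mul_one, hz2], fun e => hne (by
      rw [← CfsgLib.Invol.invol_inv hwo]; exact eq_inv_of_mul_eq_one_left e)⟩
    rw [h2]
  have hsq : ∀ a ∈ A, a * a = 1 := by
    intro a ha
    induction ha using closure_induction with
    | mem a ha => rcases ha with rfl | rfl <;> assumption
    | one => exact one_mul 1
    | mul a b ha hb iha ihb =>
      have hab : a * b = b * a := congrArg Subtype.val (mul_comm' (⟨a, ha⟩ : A) ⟨b, hb⟩)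
      rw [mul_assoc, ← mul_assoc b a b, ← hab, mul_assoc a b b, ihb, mul_one, iha]
    | inv a _ ih => rw [← mul_inv_rev, ih, inv_one]
  rw [eq_bot_iff]
  refine CfsgLib.Coprime.le_of_centralizers_le (A := A) ?_ ?_ ?_ fun a ha ha1 => ?_
  · intro hcyc
    obtain ⟨⟨g, hg⟩, hgen⟩ := hcyc.exists_generator
    have h1 := orderOf_eq_card_of_forall_mem_zpowers hgen
    rw [hcard, orderOf_mk] at h1
    have h2 := orderOf_dvd_of_pow_eq_one (show g ^ 2 = 1 by rw [pow_two]; exact hsq g hg)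
    rw [h1] at h2
    exact absurd (Nat.le_of_dvd two_pos h2) (by norm_num)
  · rw [normalizer_eq_top]; exact le_top
  · rw [hcard, show (4 : ℕ) = 2 ^ 2 by norm_num]
    exact hcop.symm.pow_left 2
  rintro b ⟨hb, hbc⟩
  have hao : orderOf a = 2 := invol_iff.2 ⟨hsq a ha, ha1⟩
  have hbx : b * x = x * b :=
    (hN.cent_iff h hx (hAS ha) hao b).1 (mem_centralizer_singleton_iff.1 hbc)
  have hbS : b ∈ S := hN.self_cent b hbx fun s hs => ?_
  · rw [Subgroup.mem_bot]
    obtain ⟨-, k, hk⟩ := (hN.mem_iff b).1 hbS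
    refine orderOf_eq_one_iff.1 (Nat.eq_one_of_dvd_coprimes (hcop.pow_right k) ?_ (orderOf_dvd_of_pow_eq_one hk))
    exact Subgroup.orderOf_dvd_natCard _ hb
  · obtain ⟨hsx, k, hk⟩ := (hN.mem_iff s).1 hs
    have h1 : s * b * s⁻¹ * b⁻¹ ∈ S := by
      rw [mul_assoc s b s⁻¹, mul_assoc s (b * s⁻¹) b⁻¹]
      refine mul_mem hs ((hN.mem_iff _).2 ⟨?_, k, ?_⟩)
      · exact (Commute.mul_left (Commute.mul_left (show Commute b x from hbx)
          (Commute.inv_left (show Commute s x from hsx))) (Commute.inv_left (show Commute b x from hbx))).eq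
      · rw [show b * s⁻¹ * b⁻¹ = MulAut.conj b s⁻¹ from rfl, ← map_pow, inv_pow, hk, inv_one, map_one]
    have h2 : s * b * s⁻¹ * b⁻¹ ∈ Cfsg.pPrimeCore 2 G :=
      mul_mem (Subgroup.Normal.conj_mem inferInstance b hb s) (inv_mem hb)
    obtain ⟨-, j, hj⟩ := (hN.mem_iff _).1 h1
    have h3 := orderOf_eq_one_iff.1 (Nat.eq_one_of_dvd_coprimes (hcop.pow_right j)
      (Subgroup.orderOf_dvd_natCard _ h2) (orderOf_dvd_of_pow_eq_one hj))
    rw [mul_inv_eq_one, mul_inv_eq_iff_eq_mul] at h3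
    exact h3

theorem Nbhd.hasPair (hN : Nbhd q x S) (h : Hyp q G) (hx : orderOf x = 2) :
    CfsgLib.Bender.HasPair G := by
  obtain ⟨z, hz, w, hw, hz1, hw1, hne, hz2, hw2⟩ := hN.two_invol
  exact ⟨z, w, invol_iff.2 ⟨hz2, hz1⟩, invol_iff.2 ⟨hw2, hw1⟩, hne,
    (((hN.transfer h hx hw (invol_iff.2 ⟨hw2, hw1⟩)).mem_iff z).1 hz).1⟩

theorem mem_of_two_pow {L : Subgroup G} [L.Normal] (hodd : Odd L.index) {a : G} {k : ℕ}
    (hk : a ^ 2 ^ k = 1) : a ∈ L := by
  refine (QuotientGroup.eq_one_iff a).1 (CfsgLib.Invol.eq_one_of_odd_of_pow_two (k := k) ?_ ?_)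
  · exact hodd.of_dvd_nat (_root_.orderOf_dvd_natCard _)
  · rw [← QuotientGroup.mk_pow, hk, QuotientGroup.mk_one]

theorem Nbhd.le_of_odd_index (hN : Nbhd q x S) {L : Subgroup G} [L.Normal] (hodd : Odd L.index) :
    S ≤ L := fun a ha => by
  obtain ⟨-, k, hk⟩ := (hN.mem_iff a).1 ha
  exact mem_of_two_pow hodd hk

/-- Involutions are conjugate under every normal subgroup of odd index. -/
theorem Hyp.conj_in (h : Hyp q G) {L : Subgroup G} [L.Normal] (hodd : Odd L.index) {s t : G}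
    (hs : orderOf s = 2) (ht : orderOf t = 2) : ∃ l ∈ L, l * s * l⁻¹ = t := by
  have hinL : ∀ u : G, orderOf u = 2 → u ∈ L := fun u hu =>
    mem_of_two_pow hodd (k := 1) (by rw [pow_one, pow_two, invol_mul_self hu])
  have main : ∀ (s t : G), orderOf s = 2 → orderOf t = 2 →
      (∀ S : Subgroup G, Nbhd q s S → t ∉ S) → ∃ l ∈ L, l * s * l⁻¹ = t := by
    intro s t hs ht hne
    rcases Nat.even_or_odd (orderOf (s * t)) with he | ho
    · obtain ⟨S, hS⟩ := h.nbhd s hs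
      set u := (s * t) ^ (orderOf (s * t) / 2)
      have huo : orderOf u = 2 := orderOf_pow_half he
      have hus : u * s = s * u := (commute_pow_half (invol_conj_mul hs ht) he).eq
      have hut : u * t = t * u := (commute_pow_half (invol_conj_mul' hs ht) he).eq
      have huS : u ∈ S := (hS.mem_iff u).2 ⟨hus, 1, by rw [pow_one, pow_two, invol_mul_self huo]⟩
      refine absurd (((hS.transfer h hs huS huo).mem_iff t).2 ⟨hut.symm, 1, ?_⟩) (hne S hS)
      rw [pow_one, pow_two, invol_mul_self ht]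
    · obtain ⟨d, hd, hdt⟩ := exists_conj_eq_of_odd hs ht ho
      exact ⟨d, zpowers_le.2 (mul_mem (hinL s hs) (hinL t ht)) hd, hdt⟩
  obtain ⟨S, hS⟩ := h.nbhd s hs
  by_cases htS : t ∈ S
  · obtain ⟨u, huo, huS⟩ := hS.exists_invol_notMem h hs
    obtain ⟨l₁, hl₁, e₁⟩ := main s u hs huo fun T hT => by rwa [hT.unique hS]
    obtain ⟨l₂, hl₂, e₂⟩ := main t u ht huo fun T hT => by rwa [hT.unique (hS.transfer h hs htS ht)]
    refine ⟨l₂⁻¹ * l₁, mul_mem (inv_mem hl₂) hl₁, ?_⟩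
    calc l₂⁻¹ * l₁ * s * (l₂⁻¹ * l₁)⁻¹ = l₂⁻¹ * (l₁ * s * l₁⁻¹) * l₂ := by group
      _ = l₂⁻¹ * (l₂ * t * l₂⁻¹) * l₂ := by rw [e₁, e₂]
      _ = t := by group
  · exact main s t hs ht fun T hT => by rwa [hT.unique hS]

theorem Hyp.centralizer_eq_bot (h : Hyp q G) {L : Subgroup G} [L.Normal] (hodd : Odd L.index) :
    centralizer (L : Set G) = ⊥ := by
  obtain ⟨x, hx⟩ := h.exists_invol
  obtain ⟨S, hN⟩ := h.nbhd x hx
  have hSL := hN.le_of_odd_index hodd
  have hcS : centralizer (L : Set G) ≤ S := fun a ha => hN.self_cent a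
    (mem_centralizer_iff.1 ha x (hSL (hN.self_mem hx))).symm
    fun s hs => mem_centralizer_iff.1 ha s (hSL hs)
  by_contra hne
  haveI : Fact (Nat.Prime 2) := ⟨Nat.prime_two⟩
  haveI : Nontrivial ↥(centralizer (L : Set G)) := (Subgroup.nontrivial_iff_ne_bot _).2 hne
  obtain ⟨n, hn, hc⟩ := (hN.isPGroup.to_le hcS).nontrivial_iff_card.1 inferInstance
  obtain ⟨⟨z, hz⟩, hzo⟩ := exists_prime_orderOf_dvd_card' 2 (hc ▸ dvd_pow_self 2 hn.ne')
  rw [Subgroup.orderOf_mk] at hzo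
  obtain ⟨t, hto, htS⟩ := hN.exists_invol_notMem h hx
  obtain ⟨g, hg⟩ := isConj_iff.1 (h.conj z t hzo hto)
  exact htS (hg ▸ hcS (Subgroup.Normal.conj_mem inferInstance z hz g))

end CfsgLib.SU.CentThree
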