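import Cfsg.Agent.Lib.SU.InvolCentThree.Pgu
import Cfsg.Agent.Lib.Bender.Suzuki.Structure

/-!
# A group with the involution centralizers of `PGU₃(2ⁿ)`: local structure
-/

set_option autoImplicit false
set_option linter.unusedSectionVars false
set_option linter.style.haveILetI false

namespace CfsgLib.SU.CentThree

open Subgroup

variable {F : Type*} [Field F] [Fintype F] [CharP F 2] {q : ℕ} {C : UCtx F q}
variable {G : Type*} [Group G] [Finite G]

/-- The normal Sylow 2-subgroup `S` of the centralizer of the involution `x`. -/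
structure Nbhd (q : ℕ) (x : G) (S : Subgroup G) : Prop where
  mem_iff : ∀ a, a ∈ S ↔ a * x = x * a ∧ ∃ k : ℕ, a ^ 2 ^ k = 1
  card_eq : Nat.card S = q ^ 3
  card_invol : Nat.card {a : G // a ∈ S ∧ a * a = 1} ≤ q
  self_cent : ∀ a, a * x = x * a → (∀ s ∈ S, s * a = a * s) → a ∈ S
  invol_comm : ∀ z ∈ S, z * z = 1 → ∀ a, a * x = x * a → z * a = a * z
  two_invol : ∃ z ∈ S, ∃ w ∈ S, z ≠ 1 ∧ w ≠ 1 ∧ z ≠ w ∧ z * z = 1 ∧ w * w = 1
  noncomm : ∃ z ∈ S, ∃ w ∈ S, z * w ≠ w * z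

theorem card_invol_eichAut (P : UPair C 3) (hF : Fintype.card F = q ^ 2) :
    Nat.card {β // β ∈ eichAut P ∧ β * β = 1} ≤ q := by
  obtain ⟨U, -⟩ := P.exists_unital
  refine le_of_le_of_eq ?_ (U.card_center_eq (q := q) (by rw [Nat.card_eq_fintype_card, hF]))
  refine Nat.card_le_card_of_surjective
    (fun z : center ↥P.eichGroup => (⟨toAut z.1.1, mem_map_of_mem _ z.1.2, ?_⟩ :
      {β // β ∈ eichAut P ∧ β * β = 1})) ?_
  · rw [← map_mul, ← Subgroup.coe_mul, U.mul_self_eq_one_iff.2 (U.mem_center_iff.1 z.2),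
      OneMemClass.coe_one, map_one]
  · rintro ⟨β, ⟨X, hX, rfl⟩, h⟩
    have h1 : (⟨X, hX⟩ : ↥P.eichGroup) * ⟨X, hX⟩ = 1 :=
      Subtype.ext (toAut_injOn P (mul_mem hX hX) (one_mem _) (by rw [Subgroup.coe_mul, OneMemClass.coe_one, map_mul, map_one]; exact h))
    exact ⟨⟨⟨X, hX⟩, U.mem_center_iff.2 (U.mul_self_eq_one_iff.1 h1)⟩, rfl⟩

theorem odd_card_sub_one (F : Type*) [Field F] [Fintype F] [CharP F 2] :
    Odd (Fintype.card F - 1) := by
  obtain ⟨n, -, h⟩ := FiniteField.card F 2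
  rw [h]
  exact Nat.Even.sub_odd (Nat.one_le_two_pow) (Nat.even_pow.2 ⟨even_two, n.pos.ne'⟩) odd_one

/-- A 2-element of the centralizer of a transvection lies in the Eichler group. -/
theorem mem_eichAut_of_pow (P : UPair C 3) {β : MulAut (Cfsg.PSU 3 F q)} (hβ : β ∈ cent P) {k : ℕ}
    (hk : β ^ 2 ^ k = 1) : β ∈ eichAut P := by
  have hcop : (Fintype.card F - 1).Coprime (orderOf β) :=
    (((odd_card_sub_one F).coprime_two_right).pow_right k).coprime_dvd_right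
      (orderOf_dvd_of_pow_eq_one hk)
  obtain ⟨m, hm⟩ := exists_pow_eq_self_of_coprime hcop
  rw [← hm]
  exact pow_mem (pow_mem_eichAut P hβ) m

/-- The local structure at an involution. -/
theorem exists_nbhd (P : UPair C 3) (hF : Fintype.card F = q ^ 2) (hq : 2 < q) {x : G}
    (hx : orderOf x = 2) (e : ↥(centralizer ({x} : Set G)) ≃* ↥(cent P)) :
    ∃ S : Subgroup G, Nbhd q x S := by
  set f : ↥(centralizer ({x} : Set G)) →* MulAut (Cfsg.PSU 3 F q) :=
    (cent P).subtype.comp e.toMonoidHom with hf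
  have hfi : Function.Injective f := (cent P).subtype_injective.comp e.injective
  have hfc : ∀ a, f a ∈ cent P := fun a => (e a).2
  have hfs : ∀ β ∈ cent P, ∃ a, f a = β := fun β hβ => ⟨e.symm ⟨β, hβ⟩, by simp [hf]⟩
  set S : Subgroup G := ((eichAut P).comap f).map (centralizer ({x} : Set G)).subtype with hS
  have hmem : ∀ (a : G) (ha : a ∈ centralizer ({x} : Set G)), a ∈ S ↔ f ⟨a, ha⟩ ∈ eichAut P := by
    intro a ha
    constructor
    · rintro ⟨b, hb, hba⟩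
      rwa [show (⟨a, ha⟩ : ↥(centralizer ({x} : Set G))) = b from Subtype.ext hba.symm]
    · exact fun h => ⟨⟨a, ha⟩, h, rfl⟩
  have hcentr : ∀ a, a * x = x * a → a ∈ centralizer ({x} : Set G) := fun a ha =>
    mem_centralizer_singleton_iff.2 ha
  have hle : ∀ a ∈ S, a * x = x * a := by
    rintro a ⟨b, -, rfl⟩
    exact mem_centralizer_singleton_iff.1 b.2
  have hback : ∀ β ∈ eichAut P, ∃ a ∈ S, ∃ ha : a ∈ centralizer ({x} : Set G), f ⟨a, ha⟩ = β := by
    intro β hβ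
    obtain ⟨b, hb⟩ := hfs β (eichAut_le_cent P hβ)
    exact ⟨b, (hmem b.1 b.2).2 (by rwa [hb]), b.2, hb⟩
  refine ⟨S, ⟨fun a => ⟨fun ha => ⟨hle a ha, ?_⟩, ?_⟩, ?_, ?_, ?_, ?_, ?_, ?_⟩⟩
  · have h := (hmem a (hcentr a (hle a ha))).1 ha
    obtain ⟨k, hk⟩ := isPGroup_eichAut P ⟨_, h⟩
    refine ⟨k, ?_⟩
    have h2 : f (⟨a, hcentr a (hle a ha)⟩ ^ 2 ^ k) = f 1 := by
      rw [map_pow, map_one]; exact congrArg Subtype.val hk
    exact congrArg Subtype.val (hfi h2)
  · rintro ⟨ha, k, hk⟩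
    refine (hmem a (hcentr a ha)).2 (mem_eichAut_of_pow P (hfc _) (k := k) ?_)
    rw [← map_pow, show (⟨a, hcentr a ha⟩ : ↥(centralizer ({x} : Set G))) ^ 2 ^ k = 1 from
      Subtype.ext hk, map_one]
  · rw [hS, Subgroup.card_map_of_injective (centralizer ({x} : Set G)).subtype_injective,
      ← Subgroup.card_map_of_injective hfi, Subgroup.map_comap_eq_self, card_eichAut P hF]
    exact fun β hβ => hfs β (eichAut_le_cent P hβ)
  · have hh : ∀ a : {a : G // a ∈ S ∧ a * a = 1}, ∃ b : {β // β ∈ eichAut P ∧ β * β = 1},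
        b.1 = f ⟨a.1, hcentr a.1 (hle a.1 a.2.1)⟩ := fun a => by
      refine ⟨⟨_, (hmem _ _).1 a.2.1, ?_⟩, rfl⟩
      rw [← map_mul, show (⟨a.1, hcentr a.1 (hle a.1 a.2.1)⟩ : ↥(centralizer ({x} : Set G))) *
        ⟨a.1, hcentr a.1 (hle a.1 a.2.1)⟩ = 1 from Subtype.ext a.2.2, map_one]
    choose ι hι using hh
    refine (Nat.card_le_card_of_injective ι fun a b hab => ?_).trans (card_invol_eichAut P hF)
    have h1 := congrArg Subtype.val hab
    rw [hι, hι] at h1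
    exact Subtype.ext (Subtype.mk.inj (hfi h1))
  · intro a ha hs
    refine (hmem a (hcentr a ha)).2 (centralizer_eichAut_le P (hfc _) fun β hβ => ?_)
    obtain ⟨b, hb, hb', rfl⟩ := hback β hβ
    rw [← map_mul, ← map_mul]
    exact congrArg f (Subtype.ext (hs b hb))
  · intro z hz hz2 a ha
    have hzc := hcentr z (hle z hz)
    have h := involution_central P ((hmem z hzc).1 hz)
      (by rw [← map_mul, show (⟨z, hzc⟩ : ↥(centralizer ({x} : Set G))) * ⟨z, hzc⟩ = 1 from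
        Subtype.ext hz2, map_one]) (hfc ⟨a, hcentr a ha⟩)
    rw [← map_mul, ← map_mul] at h
    exact congrArg Subtype.val (hfi h)
  · obtain ⟨β, hβ, γ, hγ, h1, h2, h3, h4, h5⟩ := exists_two_involutions P hF hq
    obtain ⟨z, hz, hz', rfl⟩ := hback β hβ
    obtain ⟨w, hw, hw', rfl⟩ := hback γ hγ
    refine ⟨z, hz, w, hw, fun e0 => h1 ?_, fun e0 => h2 ?_, fun e0 => h3 ?_, ?_, ?_⟩
    · exact (congrArg f (show (⟨z, hz'⟩ : ↥(centralizer ({x} : Set G))) = 1 from Subtype.ext e0)).trans (map_one f)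
    · exact (congrArg f (show (⟨w, hw'⟩ : ↥(centralizer ({x} : Set G))) = 1 from Subtype.ext e0)).trans (map_one f)
    · exact congrArg f (Subtype.ext e0)
    · exact congrArg Subtype.val (hfi (a₁ := ⟨z, hz'⟩ * ⟨z, hz'⟩) (a₂ := 1) (by rw [map_mul, map_one, h4]))
    · exact congrArg Subtype.val (hfi (a₁ := ⟨w, hw'⟩ * ⟨w, hw'⟩) (a₂ := 1) (by rw [map_mul, map_one, h5]))
  · obtain ⟨β, hβ, γ, hγ, h1⟩ := exists_noncommuting P
    obtain ⟨z, hz, hz', rfl⟩ := hback β hβ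
    obtain ⟨w, hw, hw', rfl⟩ := hback γ hγ
    refine ⟨z, hz, w, hw, fun e0 => h1 ?_⟩
    rw [← map_mul, ← map_mul]
    exact congrArg f (Subtype.ext e0)

end CfsgLib.SU.CentThree
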