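import Cfsg.Agent.Lib.SU.InvolCentThree.Facts

/-!
# `GU₃` modulo its centre, inside the automorphisms of `PSU₃`
-/

set_option autoImplicit false
set_option linter.unusedSectionVars false

namespace CfsgLib.SU.CentThree

open Matrix Subgroup

variable {F : Type*} [Field F] [Fintype F] {q : ℕ} (C : UCtx F q)

theorem gscal_mem_center (c : C.unitOne) :
    C.gscal (n := 3) c ∈ Subgroup.center ↥(Cfsg.GU 3 F q) :=
  Subgroup.mem_center_iff.2 fun g => Subtype.ext (C.gscal_comm c g.1)

/-- The kernel of the action of `GU₃` is its centre. -/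
theorem ker_indHom : (C.indHom (n := 3)).ker = Subgroup.center ↥(Cfsg.GU 3 F q) := by
  ext g
  rw [MonoidHom.mem_ker, C.indHom_apply]
  refine ⟨fun h => ?_, fun h => ?_⟩
  · obtain ⟨c, rfl⟩ := (C.eq_one_of_ind_eq_one le_rfl h).2
    exact gscal_mem_center C c
  · refine MulEquiv.ext fun x => ?_
    obtain ⟨A, rfl⟩ := QuotientGroup.mk'_surjective _ x
    show C.ind g 1 (pr A) = pr A
    rw [C.ind_pr, map_one, MulAut.one_apply]
    refine congrArg pr (su_ext fun v => ?_)
    have hc := congrArg (fun z : ↥(Cfsg.GU 3 F q) => z.1.1) (Subgroup.mem_center_iff.1 h (ofSU A))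
    have h1 : g.1.1 * A.1.1 = A.1.1 * g.1.1 := hc.symm
    rw [suConj_val, h1, mul_assoc, ← Units.val_mul, mul_inv_cancel, Units.val_one, mul_one]

/-- The embedding of `GU₃` modulo its centre. -/
noncomputable def embed : (↥(Cfsg.GU 3 F q) ⧸ Subgroup.center ↥(Cfsg.GU 3 F q)) →* MulAut (Cfsg.PSU 3 F q) :=
  QuotientGroup.lift _ C.indHom (ker_indHom C).ge

theorem embed_mk (g : ↥(Cfsg.GU 3 F q)) :
    embed C (QuotientGroup.mk g) = C.indHom g := rfl

theorem embed_injective : Function.Injective (embed C) :=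
  (injective_iff_map_eq_one _).2 fun x hx => by
    obtain ⟨g, rfl⟩ := QuotientGroup.mk'_surjective _ x
    refine (QuotientGroup.eq_one_iff g).2 ?_
    rw [← ker_indHom C]
    exact hx

theorem range_embed : (embed C).range = (C.indHom (n := 3)).range := by
  ext β
  constructor
  · rintro ⟨x, rfl⟩
    obtain ⟨g, rfl⟩ := QuotientGroup.mk'_surjective _ x
    exact ⟨g, rfl⟩
  · rintro ⟨g, rfl⟩
    exact ⟨QuotientGroup.mk g, rfl⟩

variable [CharP F 2]

theorem eich_transv_mem (P : UPair C 3) : transv P ∈ eichAut P := by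
  have h0 : (1 : F) + C.bar 1 + C.form (0 : Fin 3 → F) 0 = 0 := by
    rw [C.form_zero_left, add_zero]; exact one_trace
  exact ⟨_, P.eich_mem 0 P.perp.zero_mem 1 h0, congrArg toAut (P.eich_zero_eq_tv 1 h0)⟩

theorem orderOf_transv (P : UPair C 3) : orderOf (transv P) = 2 := by
  have h0 : (1 : F) + C.bar 1 + C.form (0 : Fin 3 → F) 0 = 0 := by
    rw [C.form_zero_left, add_zero]; exact one_trace
  have hz : (0 : F) + C.bar 0 + C.form (0 : Fin 3 → F) 0 = 0 := by
    rw [map_zero, C.form_zero_left, add_zero, add_zero]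
  have hone : P.eich 0 P.perp.zero_mem 0 hz = 1 := su_ext fun x => by
    rw [P.eich_mulVec, su_one_mulVec, C.form_zero_right]; simp
  have he : transv P = toAut (P.eich 0 P.perp.zero_mem 1 h0) :=
    (congrArg toAut (P.eich_zero_eq_tv 1 h0)).symm
  refine orderOf_eq_prime ?_ fun h1 => ?_
  · rw [he, pow_two, ← map_mul, P.eich_mul, P.eich_congr (hw' := P.perp.zero_mem) (ht' := hz) (add_zero _)
      (by rw [C.form_zero_left, sub_zero, CharTwo.add_self_eq_zero]), hone, map_one]
  · refine one_ne_zero ((P.eich_inj (toAut_injOn P (P.eich_mem _ P.perp.zero_mem _ h0)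
      (P.eich_mem _ P.perp.zero_mem _ hz) ?_)).2)
    rw [← he, h1, hone, map_one]

/-- The centralizer of the class of a transvection. -/
theorem exists_involution (P : UPair C 3) :
    ∃ y : ↥(Cfsg.GU 3 F q) ⧸ Subgroup.center ↥(Cfsg.GU 3 F q), orderOf y = 2 ∧
      Nonempty (↥(centralizer {y}) ≃* ↥(cent P)) := by
  set g := ofSU (C.tv P.e P.ee 1 one_trace) with hg
  have hy : embed C (QuotientGroup.mk g) = transv P := C.ind_ofSU _
  refine ⟨QuotientGroup.mk g, ?_, ⟨?_⟩⟩
  · rw [← orderOf_injective _ (embed_injective C), hy, orderOf_transv]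
  refine (equivMapOfInjective _ _ (embed_injective C)).trans (MulEquiv.subgroupCongr ?_)
  ext β
  rw [cent, ← range_embed C, Subgroup.mem_map, Subgroup.mem_inf, MonoidHom.mem_range,
    mem_centralizer_singleton_iff]
  constructor
  · rintro ⟨x, hx, rfl⟩
    exact ⟨⟨x, rfl⟩, by rw [← hy, ← map_mul, ← map_mul, mem_centralizer_singleton_iff.1 hx]⟩
  · rintro ⟨⟨x, rfl⟩, hx⟩
    refine ⟨x, mem_centralizer_singleton_iff.2 (embed_injective C ?_), rfl⟩
    rw [map_mul, map_mul, hy, hx]

end CfsgLib.SU.CentThree
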