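import Cfsg.Agent.Lib.SU.InvolCentThree.Families
import Cfsg.Agent.Lib.SU.Classify

/-!
# `PGU₃(2ⁿ)` from the centralizers of involutions
-/

set_option autoImplicit false
set_option linter.unusedSectionVars false
set_option linter.style.haveILetI false

namespace CfsgLib.SU.CentThree

open Subgroup Matrix

variable {F : Type*} [Field F] [Fintype F] [CharP F 2] {q : ℕ} {C : UCtx F q}

theorem eq_two_pow (hF : Fintype.card F = q ^ 2) (hq : 2 < q) : ∃ n, 1 ≤ n ∧ q = 2 ^ n := by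
  obtain ⟨k, -, hk⟩ := FiniteField.card F 2
  rw [hF] at hk
  have hd : q ∣ 2 ^ (k : ℕ) := hk ▸ dvd_pow_self q two_ne_zero
  obtain ⟨n, -, hn⟩ := (Nat.dvd_prime_pow Nat.prime_two).1 hd
  refine ⟨n, ?_, hn⟩
  rcases n with _ | n
  · rw [hn, pow_zero] at hq; omega
  · omega

/-- An element of square one of the Eichler group is a transvection. -/
theorem eq_tv_of_sq (P : UPair C 3) {X : ↥(Cfsg.SU 3 F q)} (hX : X ∈ P.eichGroup) (h : X * X = 1) :
    ∃ (t : F) (ht : t + C.bar t = 0), X = C.tv P.e P.ee t ht := by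
  obtain ⟨w, hw, t, ht, rfl⟩ := hX
  obtain ⟨u, hu, huu, hub⟩ := exists_unit_perp P
  have hz : (0 : F) + C.bar 0 + C.form (0 : Fin 3 → F) 0 = 0 := by
    rw [map_zero, C.form_zero_left, add_zero, add_zero]
  have hone : P.eich 0 P.perp.zero_mem 0 hz = 1 := su_ext fun x => by
    rw [P.eich_mulVec, su_one_mulVec, C.form_zero_right]; simp
  rw [P.eich_mul, ← hone] at h
  have h0 := (P.eich_inj h).2
  rw [CharTwo.add_self_eq_zero, zero_sub, neg_eq_zero] at h0
  have hw0 : w = 0 := by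
    have hk := hub w hw
    rw [hk, C.form_smul_left, C.form_smul_right, huu, mul_one, mul_eq_zero] at h0
    rcases h0 with h1 | h1
    · rw [hk, h1, zero_smul]
    · rw [hk, show C.form w u = 0 by simpa using h1, zero_smul]
  subst hw0
  exact ⟨t, by rwa [C.form_zero_left, add_zero] at ht, P.eich_zero_eq_tv t ht⟩

/-- Every involution is a transvection of some pair, up to an inner automorphism. -/
theorem exists_pair_of_invol (hF : Fintype.card F = q ^ 2) (hq : 2 < q) {u : Cfsg.PSU 3 F q}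
    (hu : orderOf u = 2) : ∃ (α : MulAut (Cfsg.PSU 3 F q)) (P : UPair C 3),
      α u = pr (C.tv P.e P.ee 1 one_trace) := by
  classical
  haveI : Fact (Nat.Prime 2) := ⟨Nat.prime_two⟩
  obtain ⟨n, hn, rfl⟩ := eq_two_pow hF hq
  obtain ⟨P⟩ := C.exists_pair (n := 3) (by norm_num)
  have hinj : ∀ X ∈ P.eichGroup, ∀ Y ∈ P.eichGroup, pr X = pr Y → X = Y := fun X hX Y hY h =>
    toAut_injOn P hX hY (congrArg MulAut.conj h)
  set M : Subgroup (Cfsg.PSU 3 F (2 ^ n)) := P.eichGroup.map pr with hM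
  have hMp : IsPGroup 2 M := (P.isPGroup_eichGroup 2).map _
  obtain ⟨Q, hQ⟩ := hMp.exists_le_sylow
  obtain ⟨UQ, -⟩ := unital_sylow_psu hn hF Q
  obtain ⟨U, -⟩ := P.exists_unital
  have hcard : Nat.card M = (2 ^ n) ^ 3 := by
    refine Eq.trans ?_ (U.card_eq (q := 2 ^ n) (by rw [Nat.card_eq_fintype_card, hF]))
    exact Nat.card_image_of_injOn (s := (P.eichGroup : Set ↥(Cfsg.SU 3 F (2 ^ n))))
      fun X hX Y hY h => hinj X hX Y hY h
  have hMQ : M = (Q : Subgroup (Cfsg.PSU 3 F (2 ^ n))) := Subgroup.eq_of_le_of_card_ge hQ (by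
    rw [hcard]
    exact (UQ.card_eq (q := 2 ^ n) (by rw [Nat.card_eq_fintype_card, hF])).le)
  obtain ⟨Q₀, hQ₀⟩ := (IsPGroup.of_card (p := 2) (n := 1)
    (by rw [Nat.card_zpowers, hu, pow_one]) : IsPGroup 2 (zpowers u)).exists_le_sylow
  obtain ⟨g, hg⟩ := MulAction.exists_smul_eq (Cfsg.PSU 3 F (2 ^ n)) Q₀ Q
  have hmem : MulAut.conj g u ∈ M := by
    rw [hMQ, ← hg, Sylow.coe_subgroup_smul]
    exact ⟨u, hQ₀ (mem_zpowers u), rfl⟩
  obtain ⟨X, hX, hXu⟩ := hmem
  have hu' := CfsgLib.Invol.invol_iff.1 hu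
  have hX2 : X * X = 1 := hinj _ (mul_mem hX hX) _ (one_mem _) (by
    rw [map_mul, map_one, hXu, ← map_mul, hu'.1, map_one])
  obtain ⟨t, ht, rfl⟩ := eq_tv_of_sq P hX hX2
  have ht0 : t ≠ 0 := fun h0 => by
    refine hu'.2 ((MulAut.conj g).injective ?_)
    rw [map_one, ← hXu, show C.tv P.e P.ee t ht = 1 from su_ext fun x => by
      rw [C.tv_mulVec, su_one_mulVec, h0]; simp, map_one]
  have htf : C.bar t = t := (CharTwo.add_eq_zero.1 ht).symm
  obtain ⟨a, ha⟩ := C.exists_norm htf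
  have ha0 : a ≠ 0 := fun h0 => ht0 (by rw [← ha, h0, zero_mul])
  let P' : UPair C 3 := ⟨a • P.e, (C.bar a)⁻¹ • P.f,
    by rw [C.form_smul_left, C.form_smul_right, P.ee, mul_zero, mul_zero],
    by rw [C.form_smul_left, C.form_smul_right, P.ff, mul_zero, mul_zero],
    by rw [C.form_smul_left, C.form_smul_right, P.ef, map_inv₀, C.bar_bar, mul_one, mul_inv_cancel₀ ha0]⟩
  refine ⟨MulAut.conj g, P', hXu.symm.trans (congrArg pr ?_)⟩
  show C.tv P.e P.ee t ht = C.tv (a • P.e) _ 1 _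
  rw [C.tv_smul P.e P.ee a 1 one_trace]
  exact C.tv_congr rfl (by rw [mul_one, ha])

/-- Equal parameters. -/
theorem param_eq (P : UPair C 3) {v : Fin 3 → F} {hv : C.form v v = 0} {a s s' : F}
    {hs : s + C.bar s = 0} {hs' : s' + C.bar s' = 0} (hva : v = a • P.e)
    (h : pr (C.tv v hv s' hs') = pr (C.tv P.e P.ee s hs)) : a * C.bar a * s' = s := by
  have hiso : C.form (a • P.e) (a • P.e) = 0 := by
    rw [C.form_smul_left, C.form_smul_right, P.ee, mul_zero, mul_zero]
  rw [C.tv_congr (hw := hiso) (hs := hs') hva rfl, C.tv_smul P.e P.ee a s' hs'] at h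
  obtain ⟨x, hx0, hxe, -⟩ := C.exists_orth_two (n := 3) le_rfl P.e P.e
  have he := C.pr_eq_fix le_rfl h hx0 (by rw [C.tv_mulVec, hxe]; simp) (by rw [C.tv_mulVec, hxe]; simp)
  have h2 := congrArg (fun T : ↥(Cfsg.SU 3 F q) => C.form (T.1.1 *ᵥ P.f) P.f) he
  simpa [C.tv_mulVec, P.fe, P.ef, P.ff, C.form_add_left, C.form_smul_left] using h2

/-- A field automorphism fixing the fixed field of the conjugation. -/
theorem field_cases (C : UCtx F q) {σ : RingAut F} (h : ∀ s, C.bar s = s → σ s = s) :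
    σ = 1 ∨ σ = C.bar := by
  obtain ⟨y, hy⟩ := C.exists_not_fixed
  have h1 := h (y + C.bar y) (by rw [map_add, C.bar_bar, add_comm])
  have h2 := h (y * C.bar y) (C.norm_fixed y)
  rw [map_add] at h1
  rw [map_mul] at h2
  have h3 : (σ y - y) * (σ y - C.bar y) = 0 := by linear_combination σ y * h1 - h2
  rcases mul_eq_zero.1 h3 with h4 | h4
  · refine Or.inl (RingEquiv.ext fun x => ?_)
    obtain ⟨r, s, hr, hs, rfl⟩ := C.exists_decomp hy x
    rw [map_add, map_mul, h r hr, h s hs, sub_eq_zero.1 h4]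
    rfl
  · refine Or.inr (RingEquiv.ext fun x => ?_)
    obtain ⟨r, s, hr, hs, rfl⟩ := C.exists_decomp hy x
    rw [map_add, map_mul, h r hr, h s hs, sub_eq_zero.1 h4, map_add, map_mul, hr, hs]

theorem sigma_eq_one (C : UCtx F q) {g g' : ↥(Cfsg.GU 3 F q)} {σ : RingAut F}
    (h : C.ind g σ = C.ind g' 1) : σ = 1 := by
  have h1 : C.ind g'⁻¹ 1 * C.ind g σ = 1 := by
    rw [h, ← C.indHom_apply, ← C.indHom_apply, ← map_mul, inv_mul_cancel, map_one]
  rw [C.ind_mul, one_mul] at h1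
  exact (C.eq_one_of_ind_eq_one le_rfl h1).1

/-- The recognition. -/
theorem recognition {G : Type*} [Group G] [Finite G] (C : UCtx F q) (hF : Fintype.card F = q ^ 2)
    (hq : 2 < q) (h : Hyp q G)
    (hiso : ∀ (P : UPair C 3) (x : G), orderOf x = 2 →
      Nonempty (↥(centralizer ({x} : Set G)) ≃* ↥(cent P))) :
    Nonempty (G ≃* ↥(C.indHom (n := 3)).range) := by
  classical
  haveI : Fact (Nat.Prime 2) := ⟨Nat.prime_two⟩
  obtain ⟨L, hL, hodd, ⟨E₀⟩⟩ := exists_psu_normal (F := F) h hF hq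
  haveI := hL
  obtain ⟨x, hx⟩ := h.exists_invol
  obtain ⟨S, hN⟩ := h.nbhd x hx
  have hxL : x ∈ L := hN.le_of_odd_index hodd (hN.self_mem hx)
  obtain ⟨α, P, hα⟩ := exists_pair_of_invol (C := C) hF hq (u := E₀ ⟨x, hxL⟩)
    (by rw [MulEquiv.orderOf_eq, Subgroup.orderOf_mk, hx])
  set E : L ≃* Cfsg.PSU 3 F q := E₀.trans α with hE
  have hEx : E ⟨x, hxL⟩ = pr (C.tv P.e P.ee 1 one_trace) := hα
  set ψ : G →* MulAut (Cfsg.PSU 3 F q) := (MulAut.congr E).toMonoidHom.comp MulAut.conjNormal with hψ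
  have hψE : ∀ (g : G) (l : L), ψ g (E l) = E (MulAut.conjNormal g l) := fun g l => by
    show E (MulAut.conjNormal g (E.symm (E l))) = _
    rw [E.symm_apply_apply]
  have hψL : ∀ l : L, ψ l.1 = MulAut.conj (E l) := fun l => by
    refine MulEquiv.ext fun z => ?_
    obtain ⟨z, rfl⟩ := E.surjective z
    rw [hψE, MulAut.conjNormal_val, MulAut.conj_apply, MulAut.conj_apply, map_mul, map_mul, map_inv]
  have hinj : Function.Injective ψ := (injective_iff_map_eq_one _).2 fun g hg => by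
    have hmem : g ∈ centralizer (L : Set G) := mem_centralizer_iff.2 fun l hl => by
      have h1 := hψE g ⟨l, hl⟩
      rw [hg, MulAut.one_apply] at h1
      have h2 := congrArg Subtype.val (E.injective h1)
      rw [MulAut.conjNormal_apply] at h2
      exact (eq_mul_inv_iff_mul_eq.1 h2)
    rw [h.centralizer_eq_bot hodd] at hmem
    exact hmem
  have hψx : ψ x = transv P := by
    rw [show x = (⟨x, hxL⟩ : L).1 from rfl, hψL, hEx]
    rfl
  have hLR : ∀ l : L, ψ l.1 ∈ (C.indHom (n := 3)).range := fun l => by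
    obtain ⟨A, hA⟩ := QuotientGroup.mk'_surjective _ (E l)
    refine ⟨ofSU A, ?_⟩
    rw [hψL, ← hA]
    exact C.ind_ofSU A
  have hfixed : ∀ c : G, c * x = x * c → ∀ s (hs : s + C.bar s = 0),
      ψ c (pr (C.tv P.e P.ee s hs)) = pr (C.tv P.e P.ee s hs) := by
    intro c hc s hs
    have hcomm : C.tv P.e P.ee s hs * C.tv P.e P.ee 1 one_trace =
        C.tv P.e P.ee 1 one_trace * C.tv P.e P.ee s hs := su_ext fun v => by
      rw [suMat_mulVec_mul, suMat_mulVec_mul, C.tv_mulVec, C.tv_mulVec, C.tv_mulVec, C.tv_mulVec]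
      simp only [C.form_add_left, C.form_smul_left, P.ee, mul_zero, add_zero]
      module
    have hsq : C.tv P.e P.ee s hs * C.tv P.e P.ee s hs = 1 := su_ext fun v => by
      rw [suMat_mulVec_mul, C.tv_mulVec, C.tv_mulVec, su_one_mulVec]
      simp only [C.form_add_left, C.form_smul_left, P.ee, mul_zero, add_zero]
      rw [add_assoc, ← add_smul, CharTwo.add_self_eq_zero, zero_smul, add_zero]
    obtain ⟨l, hl⟩ := E.surjective (pr (C.tv P.e P.ee s hs))
    have hlx : l.1 * x = x * l.1 := by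
      have h1 : E (l * ⟨x, hxL⟩) = E (⟨x, hxL⟩ * l) := by
        rw [map_mul, map_mul, hl, hEx, ← map_mul, ← map_mul, hcomm]
      exact congrArg Subtype.val (E.injective h1)
    have hl2 : l.1 * l.1 = 1 := by
      have h1 : E (l * l) = E 1 := by rw [map_mul, map_one, hl, ← map_mul, hsq, map_one]
      exact congrArg Subtype.val (E.injective h1)
    have hlS : l.1 ∈ S := (hN.mem_iff _).2 ⟨hlx, 1, by rw [pow_one, pow_two, hl2]⟩
    rw [← hl, hψE]
    refine congrArg E (Subtype.ext ?_)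
    rw [MulAut.conjNormal_apply, ← hN.invol_comm _ hlS hl2 c hc, mul_inv_cancel_right]
  have hcent : ∀ c : G, c * x = x * c → ψ c ∈ cent P := by
    intro c hc
    refine Subgroup.mem_inf.2 ⟨?_, mem_centralizer_singleton_iff.2 ?_⟩
    swap
    · rw [← hψx, ← map_mul, ← map_mul, hc]
    obtain ⟨g, σ, hgσ⟩ := aut_classify C le_rfl (fun _ => C.exists_cube_ne hF (by omega)) (ψ c)
    have hf := fun s hs => hfixed c hc s hs
    rw [hgσ] at hf
    have h1 := hf 1 one_trace
    rw [C.ind_tv] at h1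
    obtain ⟨a, ha⟩ := C.pT_par le_rfl (act_ne_zero _ _ P.e_ne_zero) (by rw [map_one]; exact one_ne_zero) h1
    have haa : a * C.bar a = 1 := by simpa using param_eq P ha h1
    have hσ : ∀ s, C.bar s = s → σ s = s := fun s hs => by
      have h2 := hf s (by rw [hs, CharTwo.add_self_eq_zero])
      rw [C.ind_tv] at h2
      simpa [haa] using param_eq P ha h2
    rcases field_cases C hσ with rfl | rfl
    · exact ⟨g, hgσ.symm⟩
    exfalso
    obtain ⟨e⟩ := hiso P x hx
    have hpow := pow_mem_eichAut P (e ⟨c, mem_centralizer_singleton_iff.2 hc⟩).2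
    obtain ⟨k, hk⟩ := isPGroup_eichAut P ⟨_, hpow⟩
    have hk' : (c ^ (Fintype.card F - 1)) ^ 2 ^ k = 1 := by
      have h2 : e ((⟨c, mem_centralizer_singleton_iff.2 hc⟩ ^ (Fintype.card F - 1)) ^ 2 ^ k) = e 1 := by
        rw [map_pow, map_pow, map_one]
        exact Subtype.ext (by simpa using congrArg Subtype.val hk)
      exact congrArg Subtype.val (e.injective h2)
    obtain ⟨g', hg'⟩ := hLR ⟨_, mem_of_two_pow hodd hk'⟩
    obtain ⟨B, -, hB⟩ := C.ind_pow g C.bar (Fintype.card F - 1)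
    have hbar : C.bar ^ (Fintype.card F - 1) = C.bar := by
      obtain ⟨j, hj⟩ := odd_card_sub_one F
      rw [hj, pow_succ, pow_mul, ← C.order_two, pow_orderOf_eq_one, one_pow, one_mul]
    have h3 : C.ind B C.bar = C.ind g' 1 := by
      rw [← C.indHom_apply g', hg', map_pow, hgσ, hB, hbar]
    have h4 := C.order_two
    rw [sigma_eq_one C h3, orderOf_one] at h4
    exact absurd h4 (by norm_num)
  have hrange : ψ.range = (C.indHom (n := 3)).range := by
    refine le_antisymm ?_ ?_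
    · rintro _ ⟨g, rfl⟩
      obtain ⟨l, hl, hlx⟩ := h.conj_in hodd hx (CfsgLib.Invol.invol_conj hx g)
      have hc : l⁻¹ * g * x = x * (l⁻¹ * g) := by
        calc l⁻¹ * g * x = l⁻¹ * (g * x * g⁻¹) * g := by group
          _ = l⁻¹ * (l * x * l⁻¹) * g := by rw [hlx]
          _ = x * (l⁻¹ * g) := by group
      rw [← mul_inv_cancel_left l g, map_mul]
      exact mul_mem (hLR ⟨l, hl⟩) (Subgroup.mem_inf.1 (hcent _ hc)).1
    · intro β hβ
      set t₀ := pr (C.tv P.e P.ee 1 one_trace) with ht₀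
      have ho : orderOf (E.symm (β t₀) : G) = 2 := by
        rw [Subgroup.orderOf_coe, MulEquiv.orderOf_eq, MulEquiv.orderOf_eq, ← hEx,
          MulEquiv.orderOf_eq, Subgroup.orderOf_mk, hx]
      obtain ⟨l, hl, hlx⟩ := h.conj_in hodd hx ho
      have h1 : ψ l t₀ = β t₀ := by
        rw [← hEx, hψE, show MulAut.conjNormal l (⟨x, hxL⟩ : L) = E.symm (β t₀) from Subtype.ext hlx,
          E.apply_symm_apply]
        exact congrArg β hEx.symm
      have hγ : (ψ l)⁻¹ * β ∈ cent P := by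
        refine Subgroup.mem_inf.2 ⟨mul_mem (inv_mem (hLR ⟨l, hl⟩)) hβ, (commute_transv_iff P _).2 ?_⟩
        show (ψ l).symm (β t₀) = t₀
        rw [← h1, MulEquiv.symm_apply_apply]
      have hsurj : (centralizer ({x} : Set G)).map ψ = cent P := by
        refine Subgroup.eq_of_le_of_card_ge ?_ ?_
        · rintro _ ⟨c, hc, rfl⟩
          exact hcent c (mem_centralizer_singleton_iff.1 hc)
        · obtain ⟨e⟩ := hiso P x hx
          rw [Subgroup.card_map_of_injective hinj, Nat.card_congr e.toEquiv]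
      rw [← hsurj] at hγ
      obtain ⟨c, -, hc⟩ := hγ
      refine ⟨l * c, ?_⟩
      rw [map_mul, hc, mul_inv_cancel_left]
  exact ⟨(MonoidHom.ofInjective hinj).trans (MulEquiv.subgroupCongr hrange)⟩

end CfsgLib.SU.CentThree
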